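import Cfsg.Agent.Lib.Schur.LyonsMult.Engine

/-! Generated data for the trivial multiplier of the Lyons group: the rules and derivations. -/

set_option autoImplicit false
set_option maxRecDepth 100000

namespace CfsgLib.Schur.LyonsMult

/-- The defining rules. -/
def baseRules : List Rule := [
  ([0, 23], [5, 0], [-1, 0, 0, 0, 0, 0, 0, 0, 0, 0, 0, 0, 0, 0]),
  ([0, 32], [34, 0], [0, -1, 0, 0, 0, 0, 0, 0, 0, 0, 0, 0, 0, 0]),
  ([0, 38], [40, 0], [0, 0, -1, 0, 0, 0, 0, 0, 0, 0, 0, 0, 0, 0]),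
  ([0, 46], [48, 0], [0, 0, 0, -1, 0, 0, 0, 0, 0, 0, 0, 0, 0, 0]),
  ([0, 58], [65, 0], [0, 0, 0, 0, -1, 0, 0, 0, 0, 0, 0, 0, 0, 0]),
  ([0, 66], [1, 0], [0, 0, 0, 0, 0, -1, 0, 0, 0, 0, 0, 0, 0, 0]),
  ([0, 70], [72, 0], [0, 0, 0, 0, 0, 0, -1, 0, 0, 0, 0, 0, 0, 0]),
  ([0, 78], [81, 0], [0, 0, 0, 0, 0, 0, 0, -1, 0, 0, 0, 0, 0, 0]),
  ([0, 0], [24], [0, 0, 0, 0, 0, 0, 0, 0, 1, 0, 0, 0, 0, 0]),
  ([4, 4, 1, 3, 3, 0, 4, 4, 1, 3, 3, 0, 4, 4, 1, 3, 3, 0, 1, 1], [], [0, 0, 0, 0, 0, 0, 0, 0, 0, 1, 0, 0, 0, 0]),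
  ([6, 8, 2, 6, 2, 3, 6, 8, 0, 2, 7, 4, 6, 2, 3, 6, 8, 3, 6, 4, 2, 6, 1, 4, 1, 3, 1, 4, 0, 2, 6, 8, 1, 6, 4, 1, 6, 8, 2, 6, 1, 5, 4, 4, 6, 4, 2, 4, 4, 0], [], [0, 0, 0, 0, 0, 0, 0, 0, 0, 0, 1, 0, 0, 0]),
  ([1051, 0, 8, 1051, 0, 2, 6, 8, 3, 2, 4, 6, 8, 3, 2, 4, 6, 4, 1, 4, 4, 1, 4, 0, 7, 0, 1, 3, 2, 3, 3, 2, 3, 3, 6, 1, 5, 3, 5, 4, 7, 5, 4, 4, 7, 5, 3, 5], [], [0, 0, 0, 0, 0, 0, 0, 0, 2, 0, 0, 1, 0, 0]),
  ([0, 3, 1, 4, 2, 4, 4, 2, 4, 5, 3, 3, 5, 3, 7, 5, 4, 4, 7, 5, 3, 5, 0, 1, 4, 4, 2, 5, 3, 6, 3, 2, 6, 6, 7, 5, 1, 5, 2, 5, 4, 8, 1051, 0, 6, 4, 6, 8, 3, 3, 6, 8, 4, 6, 4, 4, 6, 3, 1, 3, 3, 1, 3, 2, 4, 1051, 0, 8, 1, 5, 3, 5, 2, 6, 8, 1, 4, 2, 5, 2, 4, 4, 2, 3, 2], [], [0, 0, 0, 0, 0, 0, 0, 0, 2, 0, 0, 0, 1, 0]),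
  ([0, 3, 7, 0, 3, 3, 2, 4, 2, 3, 3, 6, 1, 5, 2, 6, 7, 6, 3, 3, 2, 5, 3, 1051, 0, 8, 4, 1051, 0, 6, 2, 5, 3, 6, 8, 5, 2, 5, 1, 5, 4, 2, 4, 2, 3], [], [0, 0, 0, 0, 0, 0, 0, 0, 2, 0, 0, 0, 0, 1])]

/-- Derivation 0. -/
def der0 : Der := (([0, 137, 0, 137, 0, 135], [], [0, 0, 0, 0, 0, 0, 0, 0, 0, 1, 0, 0, 0, 0]), [
  .regroup 0 [] [1056, 4, 4, 1, 3, 3],
  .regroup 7 [137] [4, 4, 1, 3, 3],
  .regroup 13 [137] [4, 4, 1, 3, 3],
  .regroup 19 [135] [1, 1, 4, 4, 1, 3, 3],
  .rule 1 9 true,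
  .regroup 0 [1056, 4, 4, 1, 3, 3] []])

/-- Derivation 1. -/
def der1 : Der := (([0, 100, 0, 127, 0, 107], [], [0, 0, 0, 0, 0, 0, 0, 0, 0, 0, 1, 0, 0, 0]), [
  .regroup 0 [] [1064, 6, 8, 2, 6, 2, 3, 6, 8],
  .regroup 10 [100] [2, 7, 4, 6, 2, 3, 6, 8, 3, 6, 4, 2, 6, 1, 4, 1, 3, 1, 4],
  .regroup 30 [127] [2, 6, 8, 1, 6, 4, 1, 6, 8, 2, 6, 1, 5, 4, 4, 6, 4, 2, 4, 4],
  .regroup 51 [107] [6, 8, 2, 6, 2, 3, 6, 8],
  .rule 1 10 true,
  .regroup 0 [1064, 6, 8, 2, 6, 2, 3, 6, 8] []])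

/-- Derivation 2. -/
def der2 : Der := (([0, 220, 0, 218, 0, 7, 0, 242], [], [0, 0, 0, 0, 0, 0, 0, 0, 2, 0, 0, 1, 0, 0]), [
  .regroup 0 [] [1065, 1051],
  .regroup 3 [220] [8, 1051],
  .regroup 6 [218] [2, 6, 8, 3, 2, 4, 6, 8, 3, 2, 4, 6, 4, 1, 4, 4, 1, 4],
  .regroup 25 [7] [7],
  .regroup 27 [242] [1, 3, 2, 3, 3, 2, 3, 3, 6, 1, 5, 3, 5, 4, 7, 5, 4, 4, 7, 5, 3, 5, 1051],
  .rule 1 11 true,
  .regroup 0 [1065, 1051] []])

/-- Derivation 3. -/
def der3 : Der := (([0, 484, 0, 436, 0, 491, 0, 459], [], [0, 0, 0, 0, 0, 0, 0, 0, 2, 0, 0, 0, 1, 0]), [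
  .regroup 1 [484] [3, 1, 4, 2, 4, 4, 2, 4, 5, 3, 3, 5, 3, 7, 5, 4, 4, 7, 5, 3, 5],
  .regroup 23 [436] [1, 4, 4, 2, 5, 3, 6, 3, 2, 6, 6, 7, 5, 1, 5, 2, 5, 4, 8, 1051],
  .regroup 44 [491] [6, 4, 6, 8, 3, 3, 6, 8, 4, 6, 4, 4, 6, 3, 1, 3, 3, 1, 3, 2, 4, 1051],
  .regroup 67 [459] [8, 1, 5, 3, 5, 2, 6, 8, 1, 4, 2, 5, 2, 4, 4, 2, 3, 2],
  .rule 0 12 true])

/-- Derivation 4. -/
def der4 : Der := (([0, 529, 0, 514, 0, 546, 0, 544], [], [0, 0, 0, 0, 0, 0, 0, 0, 2, 0, 0, 0, 0, 1]), [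
  .regroup 1 [529] [3, 7],
  .regroup 4 [514] [3, 3, 2, 4, 2, 3, 3, 6, 1, 5, 2, 6, 7, 6, 3, 3, 2, 5, 3, 1051],
  .regroup 25 [546] [8, 4, 1051],
  .regroup 29 [544] [6, 2, 5, 3, 6, 8, 5, 2, 5, 1, 5, 4, 2, 4, 2, 3],
  .rule 0 13 true])

/-- Derivation 5. -/
def der5 : Der := (([23, 0], [0, 25, 5, 24], [-1, 0, 0, 0, 0, 0, 0, 0, 0, 0, 0, 0, 0, 0]), [
  .regroup 0 [] [24, 25],
  .rule 0 8 false,
  .regroup 1 [] [25, 24],
  .rule 2 8 false,
  .rule 3 8 true,
  .regroup 3 [24, 25] [],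
  .rule 2 0 true,
  .rule 3 8 true])

/-- Derivation 6. -/
def der6 : Der := (([32, 0], [0, 25, 34, 24], [0, -1, 0, 0, 0, 0, 0, 0, 0, 0, 0, 0, 0, 0]), [
  .regroup 0 [] [24, 25],
  .rule 0 8 false,
  .regroup 1 [] [25, 24],
  .rule 2 8 false,
  .rule 3 8 true,
  .regroup 3 [24, 25] [],
  .rule 2 1 true,
  .rule 3 8 true])

/-- Derivation 7. -/
def der7 : Der := (([38, 0], [0, 25, 40, 24], [0, 0, -1, 0, 0, 0, 0, 0, 0, 0, 0, 0, 0, 0]), [
  .regroup 0 [] [24, 25],
  .rule 0 8 false,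
  .regroup 1 [] [25, 24],
  .rule 2 8 false,
  .rule 3 8 true,
  .regroup 3 [24, 25] [],
  .rule 2 2 true,
  .rule 3 8 true])

/-- Derivation 8. -/
def der8 : Der := (([46, 0], [0, 25, 48, 24], [0, 0, 0, -1, 0, 0, 0, 0, 0, 0, 0, 0, 0, 0]), [
  .regroup 0 [] [24, 25],
  .rule 0 8 false,
  .regroup 1 [] [25, 24],
  .rule 2 8 false,
  .rule 3 8 true,
  .regroup 3 [24, 25] [],
  .rule 2 3 true,
  .rule 3 8 true])

/-- Derivation 9. -/
def der9 : Der := (([58, 0], [0, 25, 65, 24], [0, 0, 0, 0, -1, 0, 0, 0, 0, 0, 0, 0, 0, 0]), [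
  .regroup 0 [] [24, 25],
  .rule 0 8 false,
  .regroup 1 [] [25, 24],
  .rule 2 8 false,
  .rule 3 8 true,
  .regroup 3 [24, 25] [],
  .rule 2 4 true,
  .rule 3 8 true])

/-- Derivation 10. -/
def der10 : Der := (([66, 0], [0, 25, 1, 24], [0, 0, 0, 0, 0, -1, 0, 0, 0, 0, 0, 0, 0, 0]), [
  .regroup 0 [] [24, 25],
  .rule 0 8 false,
  .regroup 1 [] [25, 24],
  .rule 2 8 false,
  .rule 3 8 true,
  .regroup 3 [24, 25] [],
  .rule 2 5 true,
  .rule 3 8 true])

/-- Derivation 11. -/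
def der11 : Der := (([70, 0], [0, 25, 72, 24], [0, 0, 0, 0, 0, 0, -1, 0, 0, 0, 0, 0, 0, 0]), [
  .regroup 0 [] [24, 25],
  .rule 0 8 false,
  .regroup 1 [] [25, 24],
  .rule 2 8 false,
  .rule 3 8 true,
  .regroup 3 [24, 25] [],
  .rule 2 6 true,
  .rule 3 8 true])

/-- Derivation 12. -/
def der12 : Der := (([78, 0], [0, 25, 81, 24], [0, 0, 0, 0, 0, 0, 0, -1, 0, 0, 0, 0, 0, 0]), [
  .regroup 0 [] [24, 25],
  .rule 0 8 false,
  .regroup 1 [] [25, 24],
  .rule 2 8 false,
  .rule 3 8 true,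
  .regroup 3 [24, 25] [],
  .rule 2 7 true,
  .rule 3 8 true])

/-- Derivation 13. -/
def der13 : Der := (([0, 11, 0], [24], [0, 0, 0, 0, 0, 0, 0, 0, 1, 0, 0, 0, 0, 0]), [
  .regroup 1 [11] [],
  .rule 0 8 true])

/-- Derivation 14. -/
def der14 : Der := (([0, 100, 0], [130, 0, 128], [0, 0, 0, 0, 0, 0, 0, 0, -1, 0, 1, 0, 0, 0]), [
  .regroup 1 [100] [100, 11],
  .regroup 0 [] [108, 25, 24, 107],
  .rule 2 8 false,
  .regroup 3 [] [128, 25, 24, 127],
  .rule 5 8 false,
  .regroup 6 [] [129, 25, 24, 100],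
  .rule 8 8 false,
  .rule 9 15 true,
  .rule 8 8 true,
  .regroup 6 [129, 25, 24, 100] [],
  .regroup 6 [] [24, 25],
  .rule 6 8 false,
  .regroup 7 [] [25, 24],
  .rule 8 8 false,
  .rule 9 8 true,
  .regroup 9 [24, 25] [],
  .regroup 9 [11] [11, 11, 11],
  .regroup 11 [11] [],
  .regroup 9 [11] [],
  .regroup 8 [] [11],
  .rule 9 27 true,
  .regroup 8 [11, 24] [24],
  .regroup 7 [25, 24] [127, 128],
  .regroup 8 [] [24, 25],
  .rule 8 8 false,
  .regroup 9 [] [25, 24],
  .rule 10 8 false,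
  .rule 11 8 true,
  .regroup 11 [24, 25] [],
  .regroup 10 [] [11],
  .regroup 9 [25, 11] [107, 130],
  .rule 5 8 true,
  .regroup 3 [128, 25, 24, 127] [],
  .rule 2 8 true,
  .regroup 0 [108, 25, 24, 107] []])

/-- Derivation 15. -/
def der15 : Der := (([0, 135, 0], [159, 0, 158], [0, 0, 0, 0, 0, 0, 0, 0, -1, 1, 0, 0, 0, 0]), [
  .regroup 3 [] [156, 157],
  .regroup 1 [135] [135, 11],
  .regroup 0 [] [158, 25, 24, 137],
  .rule 2 8 false,
  .regroup 7 [11] [],
  .regroup 8 [156] [137, 155],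
  .regroup 3 [] [158, 25, 24, 137],
  .rule 5 8 false,
  .rule 6 14 true,
  .rule 5 8 true,
  .regroup 3 [158, 25, 24, 137] [],
  .regroup 3 [] [24, 25],
  .rule 3 8 false,
  .regroup 4 [] [25, 24],
  .rule 5 8 false,
  .rule 6 8 true,
  .regroup 6 [24, 25] [],
  .regroup 5 [] [11],
  .regroup 4 [25, 11] [137, 159],
  .rule 2 8 true,
  .regroup 0 [158, 25, 24, 137] [],
  .regroup 2 [155, 157] [158]])

/-- Derivation 16. -/
def der16 : Der := (([0, 172, 0], [11, 0, 172, 0], [0, 0, 0, 0, 0, 0, 0, 0, 0, 0, 0, 0, 0, 0]), [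
  .regroup 0 [] [11]])

/-- Derivation 17. -/
def der17 : Der := (([0, 11, 0, 172, 0], [173, 0], [0, 0, 0, 0, 0, 0, 0, 0, 1, 0, 0, 0, 0, 0]), [
  .rule 1 30 false,
  .rule 0 8 true,
  .regroup 0 [24, 172] [173]])

/-- Derivation 18. -/
def der18 : Der := (([160, 0, 172, 0], [0, 172, 0, 181], [2, 0, 0, 0, 0, 0, 0, 0, 0, 0, 0, 0, 0, 0]), [
  .regroup 0 [160] [11, 160, 11],
  .rule 2 30 false,
  .regroup 1 [160] [5, 5, 5],
  .rule 3 0 false,
  .rule 2 0 false,
  .rule 1 0 false,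
  .regroup 2 [23, 23, 23] [179],
  .regroup 2 [179, 172] [172, 174, 23, 70],
  .rule 5 25 true,
  .regroup 6 [25, 72, 24] [72],
  .rule 4 19 true,
  .regroup 5 [25, 5, 24, 72] [180],
  .regroup 5 [] [25, 72, 24, 25, 68, 24],
  .rule 4 25 false,
  .regroup 3 [174, 70] [],
  .regroup 4 [25, 68, 24, 180] [181],
  .rule 1 30 true,
  .regroup 0 [11, 11] []])

/-- Derivation 19. -/
def der19 : Der := (([0, 187, 0, 172, 0], [277, 0, 278], [-1, 0, 2, 0, 0, 1, 3, -3, 1, 0, 0, 1, 0, 0]), [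
  .regroup 5 [] [202, 203],
  .regroup 1 [187] [7, 186],
  .regroup 0 [] [219, 25, 24, 218],
  .rule 2 8 false,
  .regroup 3 [] [221, 25, 24, 220],
  .rule 5 8 false,
  .regroup 12 [186] [186, 11],
  .rule 13 30 false,
  .regroup 12 [186] [1, 40, 72, 48, 72, 5],
  .rule 17 0 false,
  .rule 16 6 false,
  .rule 15 3 false,
  .rule 14 6 false,
  .rule 13 2 false,
  .rule 12 5 false,
  .regroup 13 [66, 38, 70, 46, 70, 23] [266],
  .regroup 16 [202] [25, 72, 24, 201],
  .rule 15 25 false,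
  .regroup 17 [201] [25, 40, 24, 200],
  .rule 16 21 false,
  .regroup 18 [200] [25, 40, 24, 199],
  .rule 17 21 false,
  .regroup 19 [199] [25, 34, 24, 198],
  .rule 18 20 false,
  .regroup 20 [198] [25, 40, 24, 197],
  .rule 19 21 false,
  .regroup 21 [197] [25, 192, 24, 196],
  .regroup 20 [] [267, 78],
  .rule 21 26 true,
  .regroup 22 [25, 81, 24, 25, 192, 24] [],
  .regroup 22 [196] [25, 268, 24, 195],
  .regroup 21 [] [269, 38],
  .rule 22 21 true,
  .regroup 23 [25, 40, 24, 25, 268, 24] [],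
  .regroup 23 [195] [25, 17, 24, 139],
  .regroup 22 [] [270, 23],
  .rule 23 19 true,
  .regroup 24 [25, 5, 24, 25, 17, 24] [],
  .regroup 24 [139] [25, 268, 24],
  .regroup 23 [] [269, 38],
  .rule 24 21 true,
  .regroup 25 [25, 40, 24, 25, 268, 24] [],
  .regroup 15 [70, 38, 38, 32, 38, 267, 269, 270, 269] [263],
  .regroup 13 [266, 172, 263] [254],
  .regroup 13 [254] [242, 253],
  .rule 6 16 true,
  .regroup 6 [] [24, 25],
  .rule 6 8 false,
  .regroup 7 [] [25, 24],
  .rule 8 8 false,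
  .rule 9 8 true,
  .regroup 9 [24, 25] [],
  .regroup 9 [253] [253, 11, 11],
  .regroup 11 [11] [],
  .regroup 9 [253] [23, 46, 78, 32, 78],
  .rule 8 0 true,
  .rule 9 3 true,
  .rule 10 7 true,
  .rule 11 1 true,
  .rule 12 7 true,
  .regroup 8 [5, 48, 81, 34, 81] [274],
  .rule 9 27 true,
  .regroup 8 [274, 24] [275],
  .regroup 7 [25, 275] [220, 276],
  .regroup 8 [] [24, 25],
  .rule 8 8 false,
  .regroup 9 [] [25, 24],
  .rule 10 8 false,
  .rule 11 8 true,
  .regroup 11 [24, 25] [],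
  .regroup 10 [] [11],
  .regroup 9 [25, 11] [218, 277],
  .rule 5 8 true,
  .regroup 3 [221, 25, 24, 220] [],
  .rule 2 8 true,
  .regroup 0 [219, 25, 24, 218] [],
  .regroup 2 [276, 203] [278]])

/-- Derivation 20. -/
def der20 : Der := (([289, 0, 172, 0], [0, 172, 0, 310], [1, 1, 1, 0, 0, 0, 2, 4, 0, 0, 0, -1, 0, 0]), [
  .regroup 0 [289] [280, 288],
  .regroup 5 [] [298, 299],
  .regroup 1 [288] [288, 11],
  .rule 2 30 false,
  .regroup 1 [288] [1, 72, 81, 1, 72, 40, 72, 48, 72],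
  .rule 9 6 false,
  .rule 8 3 false,
  .rule 7 6 false,
  .rule 6 2 false,
  .rule 5 6 false,
  .rule 4 5 false,
  .rule 3 7 false,
  .rule 2 6 false,
  .rule 1 5 false,
  .regroup 2 [66, 70, 78, 66, 70, 38, 70, 46, 70] [306],
  .regroup 5 [298] [25, 72, 24, 297],
  .rule 4 25 false,
  .regroup 6 [297] [25, 40, 24, 296],
  .rule 5 21 false,
  .regroup 7 [296] [25, 40, 24, 295],
  .rule 6 21 false,
  .regroup 8 [295] [25, 34, 24, 294],
  .rule 7 20 false,
  .regroup 9 [294] [25, 40, 24, 293],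
  .rule 8 21 false,
  .regroup 10 [293] [25, 290, 24, 140],
  .regroup 9 [] [307, 46],
  .rule 10 22 true,
  .regroup 11 [25, 48, 24, 25, 290, 24] [],
  .regroup 11 [140] [25, 268, 24, 12],
  .regroup 10 [] [269, 38],
  .rule 11 21 true,
  .regroup 12 [25, 40, 24, 25, 268, 24] [],
  .regroup 12 [12] [25, 12, 24],
  .regroup 11 [] [308, 66],
  .rule 12 24 true,
  .regroup 13 [25, 1, 24, 25, 12, 24] [],
  .regroup 4 [70, 38, 38, 32, 38, 307, 269, 308] [303],
  .regroup 2 [306, 172, 303] [277],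
  .regroup 4 [] [278, 309],
  .rule 2 33 false,
  .rule 1 8 true,
  .regroup 1 [24, 187] [279],
  .regroup 0 [280, 279] [],
  .regroup 3 [309, 299] [310]])

/-- Derivation 21. -/
def der21 : Der := (([318, 0, 172, 0], [0, 172, 0, 391], [-3, -3, -12, -3, -1, -2, -9, -6, 0, 0, 0, 0, 0, 0]), [
  .regroup 0 [318] [317, 187],
  .regroup 1 [] [221, 25, 24, 220],
  .rule 3 8 false,
  .rule 4 16 false,
  .rule 3 8 true,
  .regroup 1 [221, 25, 24, 220] [],
  .regroup 8 [220, 187] [319],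
  .regroup 8 [319] [319, 11, 11],
  .regroup 10 [11] [],
  .regroup 8 [319] [58, 38, 66, 58, 46],
  .rule 7 4 true,
  .rule 8 2 true,
  .rule 9 5 true,
  .rule 10 4 true,
  .rule 11 3 true,
  .regroup 7 [65, 40, 1, 65, 48] [323],
  .rule 8 31 true,
  .regroup 7 [323, 173] [324],
  .regroup 6 [242, 324] [325],
  .regroup 6 [325] [334, 172, 331],
  .regroup 8 [331] [70, 38, 38, 32, 38, 335, 267, 270, 335, 267],
  .regroup 19 [] [25, 81, 24, 25, 192, 24],
  .rule 18 26 false,
  .regroup 17 [267, 78] [],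
  .regroup 18 [25, 192, 24] [192],
  .regroup 18 [] [25, 34, 24, 25, 336, 24],
  .rule 17 20 false,
  .regroup 16 [335, 32] [],
  .regroup 17 [25, 336, 24, 192] [339],
  .regroup 17 [] [25, 5, 24, 25, 17, 24],
  .rule 16 19 false,
  .regroup 15 [270, 23] [],
  .regroup 16 [25, 17, 24, 339] [340],
  .regroup 16 [] [25, 81, 24, 25, 192, 24],
  .rule 15 26 false,
  .regroup 14 [267, 78] [],
  .regroup 15 [25, 192, 24, 340] [341],
  .regroup 15 [] [25, 34, 24, 25, 336, 24],
  .rule 14 20 false,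
  .regroup 13 [335, 32] [],
  .regroup 14 [25, 336, 24, 341] [342],
  .rule 12 21 true,
  .regroup 13 [25, 40, 24, 342] [343],
  .rule 11 20 true,
  .regroup 12 [25, 34, 24, 343] [344],
  .rule 10 21 true,
  .regroup 11 [25, 40, 24, 344] [345],
  .rule 9 21 true,
  .regroup 10 [25, 40, 24, 345] [346],
  .rule 8 25 true,
  .regroup 9 [25, 72, 24, 346] [347],
  .regroup 6 [334] [70, 78, 66, 78, 38, 70, 78, 70, 46, 23],
  .rule 5 6 true,
  .rule 6 7 true,
  .rule 7 5 true,
  .rule 8 7 true,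
  .rule 9 2 true,
  .rule 10 6 true,
  .rule 11 7 true,
  .rule 12 6 true,
  .rule 13 3 true,
  .rule 14 0 true,
  .regroup 5 [72, 81, 1, 81, 40, 72, 81, 72, 48, 5] [355],
  .rule 6 30 true,
  .regroup 5 [355, 11] [355],
  .regroup 4 [7, 355] [356],
  .regroup 4 [356] [359, 11, 358],
  .regroup 6 [358] [360, 194],
  .regroup 11 [] [181, 361],
  .rule 8 32 false,
  .regroup 7 [194, 160] [],
  .regroup 10 [] [310, 362],
  .rule 7 34 false,
  .regroup 6 [360, 289] [],
  .regroup 9 [362, 361] [363],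
  .regroup 4 [359] [46, 38, 38, 32, 66, 32],
  .rule 3 3 true,
  .rule 4 2 true,
  .rule 5 2 true,
  .rule 6 1 true,
  .rule 7 5 true,
  .rule 8 1 true,
  .regroup 3 [48, 40, 40, 34, 1, 34] [368],
  .rule 4 31 true,
  .regroup 3 [368, 173] [369],
  .regroup 2 [218, 369] [370],
  .regroup 2 [370] [378, 172, 375],
  .regroup 4 [375] [70, 38, 38, 32, 38, 379, 308, 307, 267, 174],
  .regroup 15 [] [25, 72, 24, 25, 68, 24],
  .rule 14 25 false,
  .regroup 13 [174, 70] [],
  .regroup 14 [25, 68, 24] [68],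
  .regroup 14 [] [25, 81, 24, 25, 192, 24],
  .rule 13 26 false,
  .regroup 12 [267, 78] [],
  .regroup 13 [25, 192, 24, 68] [380],
  .regroup 13 [] [25, 48, 24, 25, 290, 24],
  .rule 12 22 false,
  .regroup 11 [307, 46] [],
  .regroup 12 [25, 290, 24, 380] [381],
  .regroup 12 [] [25, 1, 24, 25, 12, 24],
  .rule 11 24 false,
  .regroup 10 [308, 66] [],
  .regroup 11 [25, 12, 24, 381] [382],
  .regroup 11 [] [25, 65, 24, 25, 383, 24],
  .rule 10 23 false,
  .regroup 9 [379, 58] [],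
  .regroup 10 [25, 383, 24, 382] [384],
  .rule 8 21 true,
  .regroup 9 [25, 40, 24, 384] [385],
  .rule 7 20 true,
  .regroup 8 [25, 34, 24, 385] [386],
  .rule 6 21 true,
  .regroup 7 [25, 40, 24, 386] [387],
  .rule 5 21 true,
  .regroup 6 [25, 40, 24, 387] [388],
  .rule 4 25 true,
  .regroup 5 [25, 72, 24, 388] [389],
  .regroup 2 [378] [70, 78, 38, 70, 78, 70, 46],
  .rule 1 6 true,
  .rule 2 7 true,
  .rule 3 2 true,
  .rule 4 6 true,
  .rule 5 7 true,
  .rule 6 6 true,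
  .rule 7 3 true,
  .regroup 1 [72, 81, 40, 72, 81, 72, 48] [316],
  .rule 2 30 true,
  .regroup 1 [316, 11] [316],
  .regroup 0 [317, 316] [],
  .regroup 3 [389, 363, 347] [391]])

/-- Derivation 22. -/
def der22 : Der := (([0, 392, 0, 172, 0], [416, 0, 172, 0, 417], [-3, -2, -6, -2, 1, -1, -8, -6, -1, 1, 0, 1, 0, 0]), [
  .regroup 1 [392] [137, 187],
  .regroup 0 [] [158, 25, 24, 137],
  .rule 2 8 false,
  .regroup 3 [] [159, 25, 24, 135],
  .rule 5 8 false,
  .regroup 6 [] [158, 25, 24, 137],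
  .rule 8 8 false,
  .regroup 9 [] [158, 25, 24, 137],
  .rule 11 8 false,
  .rule 12 14 true,
  .rule 11 8 true,
  .regroup 9 [158, 25, 24, 137] [],
  .rule 8 8 true,
  .regroup 6 [158, 25, 24, 137] [],
  .regroup 6 [] [24, 25],
  .rule 6 8 false,
  .regroup 7 [] [25, 24],
  .rule 8 8 false,
  .rule 9 8 true,
  .regroup 9 [24, 25] [],
  .regroup 9 [187] [393, 11, 360],
  .regroup 15 [] [310, 362],
  .rule 12 34 false,
  .regroup 11 [360, 289] [],
  .regroup 9 [393] [46, 66, 23, 70, 66, 78, 70, 38],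
  .rule 8 3 true,
  .rule 9 5 true,
  .rule 10 0 true,
  .rule 11 6 true,
  .rule 12 5 true,
  .rule 13 7 true,
  .rule 14 6 true,
  .rule 15 2 true,
  .regroup 8 [48, 1, 5, 72, 1, 81, 72, 40] [400],
  .rule 9 31 true,
  .regroup 8 [400, 173] [305],
  .regroup 7 [25, 305] [135, 401],
  .regroup 8 [] [24, 25],
  .rule 8 8 false,
  .regroup 9 [] [25, 24],
  .rule 10 8 false,
  .rule 11 8 true,
  .regroup 11 [24, 25] [],
  .regroup 11 [401] [407, 172, 404],
  .regroup 13 [404] [70, 38, 38, 32, 38, 267, 308, 379],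
  .regroup 22 [] [25, 65, 24, 25, 383, 24],
  .rule 21 23 false,
  .regroup 20 [379, 58] [],
  .regroup 21 [25, 383, 24] [65],
  .regroup 21 [] [25, 1, 24, 25, 12, 24],
  .rule 20 24 false,
  .regroup 19 [308, 66] [],
  .regroup 20 [25, 12, 24, 65] [408],
  .regroup 20 [] [25, 81, 24, 25, 192, 24],
  .rule 19 26 false,
  .regroup 18 [267, 78] [],
  .regroup 19 [25, 192, 24, 408] [409],
  .rule 17 21 true,
  .regroup 18 [25, 40, 24, 409] [410],
  .rule 16 20 true,
  .regroup 17 [25, 34, 24, 410] [411],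
  .rule 15 21 true,
  .regroup 16 [25, 40, 24, 411] [412],
  .rule 14 21 true,
  .regroup 15 [25, 40, 24, 412] [413],
  .rule 13 25 true,
  .regroup 14 [25, 72, 24, 413] [414],
  .regroup 11 [407] [78, 70, 38, 70, 78, 70, 46, 23],
  .rule 10 7 true,
  .rule 11 6 true,
  .rule 12 2 true,
  .rule 13 6 true,
  .rule 14 7 true,
  .rule 15 6 true,
  .rule 16 3 true,
  .rule 17 0 true,
  .regroup 10 [81, 72, 40, 72, 81, 72, 48, 5] [415],
  .rule 11 30 true,
  .regroup 10 [415, 11] [415],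
  .regroup 9 [25, 415] [137, 416],
  .rule 5 8 true,
  .regroup 3 [159, 25, 24, 135] [],
  .rule 2 8 true,
  .regroup 0 [158, 25, 24, 137] [],
  .regroup 4 [414, 362] [417]])

/-- Derivation 23. -/
def der23 : Der := (([0, 437, 0, 172, 0], [491, 0, 493], [0, 1, 2, -1, 0, 0, 4, 2, 1, 0, 0, 0, 1, 0]), [
  .regroup 5 [] [443, 465, 466, 467],
  .regroup 1 [437] [436, 316],
  .regroup 0 [] [485, 25, 24, 484],
  .rule 2 8 false,
  .regroup 7 [316] [316, 11],
  .rule 8 30 false,
  .regroup 7 [316] [72, 81, 40, 72, 81, 72, 48],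
  .rule 13 3 false,
  .rule 12 6 false,
  .rule 11 7 false,
  .rule 10 6 false,
  .rule 9 2 false,
  .rule 8 7 false,
  .rule 7 6 false,
  .regroup 8 [70, 78, 38, 70, 78, 70, 46] [378],
  .regroup 11 [443] [25, 72, 24, 442],
  .rule 10 25 false,
  .regroup 12 [442] [25, 40, 24, 441],
  .rule 11 21 false,
  .regroup 13 [441] [25, 40, 24, 440],
  .rule 12 21 false,
  .regroup 14 [440] [25, 34, 24, 438],
  .rule 13 20 false,
  .regroup 15 [438] [25, 40, 24, 439],
  .rule 14 21 false,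
  .regroup 16 [439] [25, 268, 24, 438],
  .regroup 15 [] [269, 38],
  .rule 16 21 true,
  .regroup 17 [25, 40, 24, 25, 268, 24] [],
  .regroup 17 [438] [25, 268, 24, 290],
  .regroup 16 [] [269, 38],
  .rule 17 21 true,
  .regroup 18 [25, 40, 24, 25, 268, 24] [],
  .regroup 18 [290] [25, 290, 24, 292],
  .regroup 17 [] [307, 46],
  .rule 18 22 true,
  .regroup 19 [25, 48, 24, 25, 290, 24] [],
  .regroup 19 [292] [25, 290, 24],
  .regroup 18 [] [307, 46],
  .rule 19 22 true,
  .regroup 20 [25, 48, 24, 25, 290, 24] [],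
  .regroup 10 [70, 38, 38, 32, 38, 269, 269, 307, 307] [490],
  .regroup 8 [378, 172, 490] [491],
  .regroup 8 [491] [491, 11],
  .regroup 9 [11] [],
  .regroup 10 [465] [459, 464],
  .rule 3 17 true,
  .regroup 3 [] [24, 25],
  .rule 3 8 false,
  .regroup 4 [] [25, 24],
  .rule 5 8 false,
  .rule 6 8 true,
  .regroup 6 [24, 25] [],
  .regroup 5 [] [11],
  .regroup 4 [25, 11] [484, 491],
  .rule 2 8 true,
  .regroup 0 [485, 25, 24, 484] [],
  .regroup 2 [464, 466, 467] [493]])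

/-- Derivation 24. -/
def der24 : Der := (([496, 0, 172, 0], [0, 172, 0, 498], [0, 0, 0, 0, 0, 0, 0, 0, 0, 0, 0, 0, -1, 0]), [
  .regroup 0 [496] [495, 316],
  .regroup 5 [] [443, 467],
  .regroup 1 [316] [316, 11],
  .rule 2 30 false,
  .regroup 1 [316] [72, 81, 40, 72, 81, 72, 48],
  .rule 7 3 false,
  .rule 6 6 false,
  .rule 5 7 false,
  .rule 4 6 false,
  .rule 3 2 false,
  .rule 2 7 false,
  .rule 1 6 false,
  .regroup 2 [70, 78, 38, 70, 78, 70, 46] [378],
  .regroup 5 [443] [25, 72, 24, 442],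
  .rule 4 25 false,
  .regroup 6 [442] [25, 40, 24, 441],
  .rule 5 21 false,
  .regroup 7 [441] [25, 40, 24, 440],
  .rule 6 21 false,
  .regroup 8 [440] [25, 34, 24, 438],
  .rule 7 20 false,
  .regroup 9 [438] [25, 40, 24, 439],
  .rule 8 21 false,
  .regroup 10 [439] [25, 268, 24, 438],
  .regroup 9 [] [269, 38],
  .rule 10 21 true,
  .regroup 11 [25, 40, 24, 25, 268, 24] [],
  .regroup 11 [438] [25, 268, 24, 290],
  .regroup 10 [] [269, 38],
  .rule 11 21 true,
  .regroup 12 [25, 40, 24, 25, 268, 24] [],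
  .regroup 12 [290] [25, 290, 24, 292],
  .regroup 11 [] [307, 46],
  .rule 12 22 true,
  .regroup 13 [25, 48, 24, 25, 290, 24] [],
  .regroup 13 [292] [25, 290, 24],
  .regroup 12 [] [307, 46],
  .rule 13 22 true,
  .regroup 14 [25, 48, 24, 25, 290, 24] [],
  .regroup 4 [70, 38, 38, 32, 38, 269, 269, 307, 307] [490],
  .regroup 2 [378, 172, 490] [491],
  .regroup 4 [] [493, 497],
  .rule 2 37 false,
  .rule 1 8 true,
  .regroup 1 [24, 437] [494],
  .regroup 0 [495, 494] [],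
  .regroup 3 [497, 467] [498]])

/-- Derivation 25. -/
def der25 : Der := (([0, 521, 0, 172, 0], [612, 0, 172, 0, 614], [-1, -3, 1, -2, 1, -1, 0, -4, -1, 0, 1, 0, 0, 1]), [
  .regroup 5 [] [527, 528],
  .regroup 1 [521] [514, 520],
  .regroup 0 [] [530, 25, 24, 529],
  .rule 2 8 false,
  .regroup 3 [] [545, 25, 24, 544],
  .rule 5 8 false,
  .regroup 12 [520] [520, 11],
  .rule 13 30 false,
  .regroup 12 [520] [81, 1, 40, 34, 72, 65, 5],
  .rule 18 0 false,
  .rule 17 4 false,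
  .rule 16 6 false,
  .rule 15 1 false,
  .rule 14 2 false,
  .rule 13 5 false,
  .rule 12 7 false,
  .regroup 13 [78, 66, 38, 32, 70, 58, 23] [564],
  .regroup 16 [527] [25, 72, 24, 526],
  .rule 15 25 false,
  .regroup 17 [526] [25, 40, 24, 525],
  .rule 16 21 false,
  .regroup 18 [525] [25, 40, 24, 524],
  .rule 17 21 false,
  .regroup 19 [524] [25, 34, 24, 522],
  .rule 18 20 false,
  .regroup 20 [522] [25, 40, 24, 523],
  .rule 19 21 false,
  .regroup 21 [523] [25, 268, 24, 522],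
  .regroup 20 [] [269, 38],
  .rule 21 21 true,
  .regroup 22 [25, 40, 24, 25, 268, 24] [],
  .regroup 22 [522] [25, 192, 24, 109],
  .regroup 21 [] [267, 78],
  .rule 22 26 true,
  .regroup 23 [25, 81, 24, 25, 192, 24] [],
  .regroup 23 [109] [25, 336, 24, 565],
  .regroup 22 [] [335, 32],
  .rule 23 20 true,
  .regroup 24 [25, 34, 24, 25, 336, 24] [],
  .regroup 24 [565] [25, 336, 24, 12],
  .regroup 23 [] [335, 32],
  .rule 24 20 true,
  .regroup 25 [25, 34, 24, 25, 336, 24] [],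
  .regroup 25 [12] [25, 12, 24],
  .regroup 24 [] [308, 66],
  .rule 25 24 true,
  .regroup 26 [25, 1, 24, 25, 12, 24] [],
  .regroup 15 [70, 38, 38, 32, 38, 269, 267, 335, 335, 308] [561],
  .regroup 13 [564, 172, 561] [555],
  .regroup 13 [555] [546, 554],
  .regroup 6 [] [566, 25, 24, 546],
  .rule 8 8 false,
  .regroup 9 [] [567, 25, 24, 514],
  .rule 11 8 false,
  .regroup 12 [] [530, 25, 24, 529],
  .rule 14 8 false,
  .rule 15 18 true,
  .rule 14 8 true,
  .regroup 12 [530, 25, 24, 529] [],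
  .rule 11 8 true,
  .regroup 9 [567, 25, 24, 514] [],
  .rule 8 8 true,
  .regroup 6 [566, 25, 24, 546] [],
  .regroup 6 [] [24, 25],
  .rule 6 8 false,
  .regroup 7 [] [25, 24],
  .rule 8 8 false,
  .rule 9 8 true,
  .regroup 9 [24, 25] [],
  .regroup 9 [554] [574, 100, 571],
  .regroup 11 [571] [46, 32, 32, 32, 269, 174, 267, 174],
  .regroup 20 [] [25, 72, 24, 25, 68, 24],
  .rule 19 25 false,
  .regroup 18 [174, 70] [],
  .regroup 19 [25, 68, 24] [68],
  .regroup 19 [] [25, 81, 24, 25, 192, 24],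
  .rule 18 26 false,
  .regroup 17 [267, 78] [],
  .regroup 18 [25, 192, 24, 68] [380],
  .regroup 18 [] [25, 72, 24, 25, 68, 24],
  .rule 17 25 false,
  .regroup 16 [174, 70] [],
  .regroup 17 [25, 68, 24, 380] [575],
  .regroup 17 [] [25, 40, 24, 25, 268, 24],
  .rule 16 21 false,
  .regroup 15 [269, 38] [],
  .regroup 16 [25, 268, 24, 575] [576],
  .rule 14 20 true,
  .regroup 15 [25, 34, 24, 576] [577],
  .rule 13 20 true,
  .regroup 14 [25, 34, 24, 577] [578],
  .rule 12 20 true,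
  .regroup 13 [25, 34, 24, 578] [579],
  .rule 11 22 true,
  .regroup 12 [25, 48, 24, 579] [582],
  .regroup 9 [574] [46, 78, 66, 70, 78, 38, 78],
  .rule 8 3 true,
  .rule 9 7 true,
  .rule 10 5 true,
  .rule 11 6 true,
  .rule 12 7 true,
  .rule 13 2 true,
  .rule 14 7 true,
  .regroup 8 [48, 81, 1, 72, 81, 40, 81] [588],
  .rule 9 28 true,
  .regroup 8 [588, 130] [589],
  .regroup 10 [128, 582] [590],
  .regroup 7 [25, 589] [544, 592],
  .regroup 8 [] [24, 25],
  .rule 8 8 false,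
  .regroup 9 [] [25, 24],
  .rule 10 8 false,
  .rule 11 8 true,
  .regroup 11 [24, 25] [],
  .regroup 11 [592] [600, 172, 597],
  .regroup 13 [597] [70, 38, 38, 32, 38, 269, 335, 269, 308, 308],
  .regroup 24 [] [25, 1, 24, 25, 12, 24],
  .rule 23 24 false,
  .regroup 22 [308, 66] [],
  .regroup 23 [25, 12, 24] [12],
  .regroup 23 [] [25, 1, 24, 25, 12, 24],
  .rule 22 24 false,
  .regroup 21 [308, 66] [],
  .regroup 22 [25, 12, 24, 12] [25],
  .regroup 22 [] [25, 40, 24, 25, 268, 24],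
  .rule 21 21 false,
  .regroup 20 [269, 38] [],
  .regroup 21 [25, 268, 24, 25] [601],
  .regroup 21 [] [25, 34, 24, 25, 336, 24],
  .rule 20 20 false,
  .regroup 19 [335, 32] [],
  .regroup 20 [25, 336, 24, 601] [602],
  .regroup 20 [] [25, 40, 24, 25, 268, 24],
  .rule 19 21 false,
  .regroup 18 [269, 38] [],
  .regroup 19 [25, 268, 24, 602] [603],
  .rule 17 21 true,
  .regroup 18 [25, 40, 24, 603] [602],
  .rule 16 20 true,
  .regroup 17 [25, 34, 24, 602] [601],
  .rule 15 21 true,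
  .regroup 16 [25, 40, 24, 601] [25],
  .rule 14 21 true,
  .regroup 15 [25, 40, 24, 25] [188],
  .rule 13 25 true,
  .regroup 14 [25, 72, 24, 188] [604],
  .regroup 11 [600] [66, 78, 23, 70, 23, 78, 70, 66, 38],
  .rule 10 5 true,
  .rule 11 7 true,
  .rule 12 0 true,
  .rule 13 6 true,
  .rule 14 0 true,
  .rule 15 7 true,
  .rule 16 6 true,
  .rule 17 5 true,
  .rule 18 2 true,
  .regroup 10 [1, 81, 5, 72, 5, 81, 72, 1, 40] [611],
  .rule 11 30 true,
  .regroup 10 [611, 11] [611],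
  .regroup 9 [25, 611] [529, 612],
  .rule 5 8 true,
  .regroup 3 [545, 25, 24, 544] [],
  .rule 2 8 true,
  .regroup 0 [530, 25, 24, 529] [],
  .regroup 4 [604, 590, 528] [614]])

/-- Derivation 26. -/
def der26 : Der := (([0, 172, 0, 616], [0, 172, 0, 616], [3, 1, 0, 0, 0, 0, 0, 0, 0, 0, 0, 0, 0, 0]), [
  .regroup 0 [] [11, 11],
  .rule 1 30 false,
  .regroup 4 [616] [25, 192, 24, 615],
  .regroup 3 [] [267, 78],
  .rule 4 26 true,
  .regroup 5 [25, 81, 24, 25, 192, 24] [],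
  .regroup 5 [615] [25, 34, 24, 81],
  .rule 4 20 false,
  .regroup 6 [81] [25, 81, 24],
  .rule 5 26 false,
  .regroup 2 [172, 267, 32, 78] [23, 172],
  .rule 1 0 true,
  .rule 2 30 true,
  .regroup 0 [11, 5, 11] [5],
  .regroup 0 [5] [160, 160],
  .rule 1 32 true,
  .rule 0 32 true,
  .regroup 3 [181, 181] [616]])

/-- Derivation 27. -/
def der27 : Der := (([0, 172, 0, 181], [0, 172, 0, 181], [-1, 0, 1, -1, 1, 0, 0, 0, 0, 0, 0, 0, 0, 0]), [
  .regroup 0 [] [11, 11],
  .rule 1 30 false,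
  .regroup 4 [181] [25, 290, 24, 619],
  .regroup 3 [] [307, 46],
  .rule 4 22 true,
  .regroup 5 [25, 48, 24, 25, 290, 24] [],
  .regroup 5 [619] [25, 17, 24, 618],
  .regroup 4 [] [270, 23],
  .rule 5 19 true,
  .regroup 6 [25, 5, 24, 25, 17, 24] [],
  .regroup 6 [618] [25, 65, 24, 617],
  .rule 5 23 false,
  .regroup 7 [617] [25, 40, 24, 160],
  .rule 6 21 false,
  .regroup 8 [160] [25, 5, 24],
  .rule 7 19 false,
  .regroup 2 [172, 307, 270, 58, 38, 23] [179, 172],
  .regroup 2 [179] [23, 23, 23],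
  .rule 1 0 true,
  .rule 2 0 true,
  .rule 3 0 true,
  .regroup 1 [5, 5, 5] [160],
  .rule 2 30 true,
  .regroup 0 [11, 160, 11] [160],
  .rule 0 32 true])

/-- Derivation 28. -/
def der28 : Der := (([0, 172, 0, 361], [0, 172, 0, 361], [6, 0, -1, 1, 1, 0, 0, 0, 0, 0, 0, 0, 0, 0]), [
  .regroup 0 [] [11, 11],
  .rule 1 30 false,
  .regroup 4 [361] [25, 17, 24, 622],
  .regroup 3 [] [270, 23],
  .rule 4 19 true,
  .regroup 5 [25, 5, 24, 25, 17, 24] [],
  .regroup 5 [622] [25, 268, 24, 621],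
  .regroup 4 [] [269, 38],
  .rule 5 21 true,
  .regroup 6 [25, 40, 24, 25, 268, 24] [],
  .regroup 6 [621] [25, 65, 24, 620],
  .rule 5 23 false,
  .regroup 7 [620] [25, 48, 24, 160],
  .rule 6 22 false,
  .regroup 8 [160] [25, 5, 24],
  .rule 7 19 false,
  .regroup 2 [172, 270, 269, 58, 46, 23] [628, 172],
  .regroup 2 [628] [23, 23],
  .rule 1 0 true,
  .rule 2 0 true,
  .regroup 1 [5, 5] [194],
  .rule 2 30 true,
  .regroup 0 [11, 194, 11] [194],
  .regroup 0 [194] [160, 160, 160, 160],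
  .rule 3 32 true,
  .rule 2 32 true,
  .regroup 5 [181, 181] [616],
  .rule 1 32 true,
  .regroup 4 [181, 616] [629],
  .rule 0 32 true,
  .regroup 3 [181, 629] [361]])

/-- Derivation 29. -/
def der29 : Der := (([0, 24], [0, 24], [0, 0, 0, 0, 0, -4, 0, 0, -3, 2, 0, 0, 0, 0]), [
  .regroup 1 [24] [137, 137],
  .regroup 0 [] [135, 159],
  .regroup 1 [159] [24, 135],
  .rule 1 8 false,
  .rule 2 29 true,
  .regroup 4 [158, 137] [],
  .regroup 2 [159] [24, 135, 11],
  .regroup 4 [11] [78, 70, 66, 308, 174, 267],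
  .regroup 11 [] [25, 81, 24, 25, 192, 24],
  .rule 10 26 false,
  .regroup 9 [267, 78] [],
  .regroup 10 [25, 192, 24] [192],
  .regroup 10 [] [25, 72, 24, 25, 68, 24],
  .rule 9 25 false,
  .regroup 8 [174, 70] [],
  .regroup 9 [25, 68, 24, 192] [630],
  .regroup 9 [] [25, 1, 24, 25, 12, 24],
  .rule 8 24 false,
  .regroup 7 [308, 66] [],
  .regroup 8 [25, 12, 24, 630] [631],
  .rule 6 24 true,
  .regroup 7 [25, 1, 24, 631] [630],
  .rule 5 25 true,
  .regroup 6 [25, 72, 24, 630] [192],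
  .rule 4 26 true,
  .regroup 5 [25, 81, 24, 192] [11],
  .regroup 2 [24] [66, 66],
  .rule 1 5 true,
  .rule 2 5 true,
  .regroup 1 [1, 1] [24],
  .rule 2 29 true,
  .regroup 1 [24, 159] [158],
  .regroup 3 [158, 11] [158],
  .regroup 3 [158, 137] [],
  .regroup 0 [135, 158] [24],
  .regroup 0 [24] [66, 66],
  .rule 1 24 true,
  .regroup 2 [25, 1, 24] [1],
  .rule 0 24 true,
  .regroup 1 [25, 1, 24, 1] [24]])

/-- Derivation 30. -/
def der30 : Der := (([0, 11], [0, 11], [0, 0, 0, 0, 0, 10, 0, 0, 0, 0, 0, 0, 0, 0]), [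
  .regroup 1 [11] [158, 137],
  .regroup 0 [] [159, 135],
  .regroup 3 [158] [158, 11],
  .regroup 1 [135] [25, 159],
  .rule 2 29 false,
  .regroup 1 [25] [1, 1, 1, 1, 1, 1],
  .rule 6 5 false,
  .rule 5 5 false,
  .rule 4 5 false,
  .rule 3 5 false,
  .rule 2 5 false,
  .rule 1 5 false,
  .regroup 2 [66, 66, 66, 66, 66, 66] [25],
  .regroup 5 [11] [25, 81, 24, 192],
  .rule 4 26 false,
  .regroup 6 [192] [25, 72, 24, 630],
  .rule 5 25 false,
  .regroup 7 [630] [25, 1, 24, 631],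
  .rule 6 24 false,
  .regroup 8 [631] [25, 12, 24, 630],
  .regroup 7 [] [308, 66],
  .rule 8 24 true,
  .regroup 9 [25, 1, 24, 25, 12, 24] [],
  .regroup 9 [630] [25, 68, 24, 192],
  .regroup 8 [] [174, 70],
  .rule 9 25 true,
  .regroup 10 [25, 72, 24, 25, 68, 24] [],
  .regroup 10 [192] [25, 192, 24],
  .regroup 9 [] [267, 78],
  .rule 10 26 true,
  .regroup 11 [25, 81, 24, 25, 192, 24] [],
  .regroup 4 [78, 70, 66, 308, 174, 267] [11],
  .regroup 2 [25, 135, 11] [137],
  .regroup 2 [137] [137, 11],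
  .regroup 3 [11] [],
  .regroup 4 [137] [135, 25],
  .regroup 5 [25] [632, 24],
  .rule 6 27 false,
  .regroup 5 [632] [1, 1, 1, 1],
  .rule 8 5 false,
  .rule 7 5 false,
  .rule 6 5 false,
  .rule 5 5 false,
  .regroup 6 [66, 66, 66, 66] [632],
  .regroup 8 [] [11],
  .regroup 6 [632, 11, 11] [632],
  .regroup 6 [632] [137, 135],
  .regroup 1 [] [158, 25, 24, 137],
  .rule 3 8 false,
  .rule 4 14 true,
  .rule 3 8 true,
  .regroup 1 [158, 25, 24, 137] [],
  .regroup 0 [159, 135] [11],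
  .regroup 0 [11] [],
  .regroup 1 [] [11]])

/-- Derivation 31. -/
def der31 : Der := (([0, 640], [0, 640], [0, 5, 1, 1, -1, 1, 3, 2, 0, 0, 0, 0, 0, 0]), [
  .regroup 1 [640] [638, 639],
  .regroup 0 [] [11, 11],
  .regroup 1 [11] [],
  .regroup 2 [638] [127, 637],
  .regroup 3 [637] [636, 24],
  .rule 4 27 false,
  .regroup 3 [636] [1, 81, 5, 72, 1, 34, 72, 34],
  .rule 10 1 false,
  .rule 9 6 false,
  .rule 8 1 false,
  .rule 7 5 false,
  .rule 6 6 false,
  .rule 5 0 false,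
  .rule 4 7 false,
  .rule 3 5 false,
  .regroup 4 [66, 78, 23, 70, 66, 32, 70, 32] [647],
  .regroup 6 [] [11],
  .regroup 4 [647, 11, 11] [647],
  .regroup 4 [647] [107, 646],
  .regroup 7 [639] [128, 269],
  .regroup 5 [646] [645, 130],
  .rule 6 28 false,
  .regroup 5 [645] [81, 40, 40, 34, 1, 72],
  .rule 10 6 false,
  .rule 9 5 false,
  .rule 8 1 false,
  .rule 7 2 false,
  .rule 6 2 false,
  .rule 5 7 false,
  .regroup 6 [78, 38, 38, 32, 66, 70] [663],
  .regroup 9 [269] [25, 48, 24, 336],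
  .rule 8 22 false,
  .regroup 10 [336] [25, 34, 24, 34],
  .rule 9 20 false,
  .regroup 11 [34] [25, 34, 24, 191],
  .rule 10 20 false,
  .regroup 12 [191] [25, 34, 24],
  .rule 11 20 false,
  .regroup 8 [46, 32, 32, 32] [268],
  .regroup 6 [663, 100, 268] [661],
  .regroup 6 [661] [100, 659],
  .regroup 1 [] [129, 25, 24, 100],
  .rule 3 8 false,
  .rule 4 15 true,
  .rule 3 8 true,
  .regroup 1 [129, 25, 24, 100] [],
  .regroup 0 [11, 659] [659],
  .regroup 0 [659] [38, 66, 58, 66, 23, 32],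
  .rule 5 20 true,
  .regroup 6 [25, 34, 24] [191],
  .rule 4 19 true,
  .regroup 5 [25, 5, 24, 191] [664],
  .rule 3 24 true,
  .regroup 4 [25, 1, 24, 664] [665],
  .rule 2 23 true,
  .regroup 3 [25, 65, 24, 665] [666],
  .rule 1 24 true,
  .regroup 2 [25, 1, 24, 666] [667],
  .rule 0 21 true,
  .regroup 1 [25, 40, 24, 667] [640]])

/-- Derivation 32. -/
def der32 : Der := (([0, 674], [0, 674], [-5, -3, 0, -3, 0, -2, -2, -3, -3, 0, 2, 0, 0, 0]), [
  .regroup 1 [674] [127, 673],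
  .regroup 0 [] [676, 675],
  .regroup 1 [675] [24, 100],
  .rule 1 8 false,
  .rule 2 28 true,
  .regroup 4 [128, 127] [],
  .regroup 2 [130] [680, 100, 677],
  .regroup 4 [677] [46, 32, 32, 32, 174, 308],
  .regroup 11 [] [25, 1, 24, 25, 12, 24],
  .rule 10 24 false,
  .regroup 9 [308, 66] [],
  .regroup 10 [25, 12, 24] [12],
  .regroup 10 [] [25, 72, 24, 25, 68, 24],
  .rule 9 25 false,
  .regroup 8 [174, 70] [],
  .regroup 9 [25, 68, 24, 12] [69],
  .rule 7 20 true,
  .regroup 8 [25, 34, 24, 69] [668],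
  .rule 6 20 true,
  .regroup 7 [25, 34, 24, 668] [669],
  .rule 5 20 true,
  .regroup 6 [25, 34, 24, 669] [670],
  .rule 4 22 true,
  .regroup 5 [25, 48, 24, 670] [671],
  .regroup 2 [680] [46, 66, 78, 23, 46, 23],
  .rule 1 3 true,
  .rule 2 5 true,
  .rule 3 7 true,
  .rule 4 0 true,
  .rule 5 3 true,
  .rule 6 0 true,
  .regroup 1 [48, 1, 81, 5, 48, 5] [684],
  .rule 2 28 true,
  .regroup 1 [684, 130] [685],
  .regroup 3 [128, 671] [672],
  .regroup 3 [672, 673] [],
  .regroup 0 [676, 685] [686],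
  .regroup 0 [686] [66, 78, 70, 66, 23, 70, 78, 70, 23, 23],
  .rule 9 19 true,
  .regroup 10 [25, 5, 24] [160],
  .rule 8 19 true,
  .regroup 9 [25, 5, 24, 160] [5],
  .rule 7 25 true,
  .regroup 8 [25, 72, 24, 5] [687],
  .rule 6 26 true,
  .regroup 7 [25, 81, 24, 687] [688],
  .rule 5 25 true,
  .regroup 6 [25, 72, 24, 688] [689],
  .rule 4 19 true,
  .regroup 5 [25, 5, 24, 689] [690],
  .rule 3 24 true,
  .regroup 4 [25, 1, 24, 690] [691],
  .rule 2 25 true,
  .regroup 3 [25, 72, 24, 691] [692],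
  .rule 1 26 true,
  .regroup 2 [25, 81, 24, 692] [693],
  .rule 0 24 true,
  .regroup 1 [25, 1, 24, 693] [674]])

/-- Derivation 33. -/
def der33 : Der := (([709], [709], [-1, 3, 0, 5, 1, 6, 4, 2, 0, 0, 0, 0, 0, 0]), [
  .regroup 0 [709] [699, 708],
  .regroup 0 [] [719, 718],
  .regroup 1 [718] [717, 24],
  .rule 2 27 false,
  .regroup 1 [717] [72, 48, 72, 1, 81, 48, 72, 1, 48],
  .rule 9 3 false,
  .rule 8 5 false,
  .rule 7 6 false,
  .rule 6 3 false,
  .rule 5 7 false,
  .rule 4 5 false,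
  .rule 3 6 false,
  .rule 2 3 false,
  .rule 1 6 false,
  .regroup 2 [70, 46, 70, 66, 78, 46, 70, 66, 46] [728],
  .regroup 4 [] [11],
  .regroup 2 [728, 11, 11] [728],
  .regroup 2 [728] [127, 727],
  .regroup 5 [699] [128, 698],
  .regroup 3 [727] [726, 130],
  .rule 4 28 false,
  .regroup 3 [726] [1, 1, 48, 1, 72, 65, 1, 81, 72],
  .rule 11 6 false,
  .rule 10 7 false,
  .rule 9 5 false,
  .rule 8 4 false,
  .rule 7 6 false,
  .rule 6 5 false,
  .rule 5 3 false,
  .rule 4 5 false,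
  .rule 3 5 false,
  .regroup 4 [66, 66, 46, 66, 70, 58, 66, 78, 70] [734],
  .regroup 7 [698] [25, 48, 24, 697],
  .rule 6 22 false,
  .regroup 8 [697] [25, 34, 24, 696],
  .rule 7 20 false,
  .regroup 9 [696] [25, 34, 24, 695],
  .rule 8 20 false,
  .regroup 10 [695] [25, 34, 24, 694],
  .rule 9 20 false,
  .regroup 11 [694] [25, 68, 24, 194],
  .regroup 10 [] [174, 70],
  .rule 11 25 true,
  .regroup 12 [25, 72, 24, 25, 68, 24] [],
  .regroup 12 [194] [25, 17, 24],
  .regroup 11 [] [270, 23],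
  .rule 12 19 true,
  .regroup 13 [25, 5, 24, 25, 17, 24] [],
  .regroup 6 [46, 32, 32, 32, 174, 270] [731],
  .regroup 4 [734, 100, 731] [107],
  .regroup 4 [107] [107, 11],
  .regroup 5 [11] [],
  .regroup 6 [708] [100, 707],
  .regroup 1 [] [129, 25, 24, 100],
  .rule 3 8 false,
  .rule 4 15 true,
  .rule 3 8 true,
  .regroup 1 [129, 25, 24, 100] [],
  .regroup 0 [719, 707] [709]])

/-- Derivation 34. -/
def der34 : Der := (([0, 172, 0, 743], [0, 172, 0, 743], [4, -6, -33, -11, 0, -7, -22, 0, -3, 2, 0, -4, 0, 0]), [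
  .regroup 3 [743] [735, 742],
  .regroup 0 [] [745, 744],
  .regroup 1 [744] [24, 392],
  .rule 1 8 false,
  .rule 2 36 true,
  .regroup 6 [417, 735] [],
  .regroup 2 [416] [755, 392, 751],
  .regroup 4 [751] [318, 318, 160, 289, 360, 756],
  .regroup 13 [] [391, 736],
  .rule 10 35 false,
  .regroup 9 [756, 318] [],
  .regroup 12 [] [310, 362],
  .rule 9 34 false,
  .regroup 8 [360, 289] [],
  .regroup 11 [362, 736] [737],
  .rule 7 34 true,
  .regroup 10 [310, 737] [736],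
  .rule 6 32 true,
  .regroup 9 [181, 736] [738],
  .rule 5 35 true,
  .regroup 8 [391, 738] [739],
  .rule 4 35 true,
  .regroup 7 [391, 739] [740],
  .regroup 2 [755] [38, 38, 66, 46, 38, 32, 32],
  .rule 1 2 true,
  .rule 2 2 true,
  .rule 3 5 true,
  .rule 4 3 true,
  .rule 5 2 true,
  .rule 6 1 true,
  .rule 7 1 true,
  .regroup 1 [40, 40, 1, 48, 40, 34, 34] [761],
  .rule 2 36 true,
  .regroup 1 [761, 416] [762],
  .regroup 5 [417, 740] [741],
  .regroup 5 [741, 742] [],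
  .regroup 0 [745, 762] [763],
  .regroup 0 [763] [289, 318, 289, 289, 160, 289, 289, 289, 160, 160, 160],
  .rule 10 32 true,
  .rule 9 32 true,
  .regroup 12 [181, 181] [616],
  .rule 8 32 true,
  .regroup 11 [181, 616] [629],
  .rule 7 34 true,
  .regroup 10 [310, 629] [764],
  .rule 6 34 true,
  .regroup 9 [310, 764] [765],
  .rule 5 34 true,
  .regroup 8 [310, 765] [766],
  .rule 4 32 true,
  .regroup 7 [181, 766] [767],
  .rule 3 34 true,
  .regroup 6 [310, 767] [768],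
  .rule 2 34 true,
  .regroup 5 [310, 768] [769],
  .rule 1 35 true,
  .regroup 4 [391, 769] [770],
  .rule 0 34 true,
  .regroup 3 [310, 770] [743]])

/-- Derivation 35. -/
def der35 : Der := (([789], [789], [0, 4, 0, 2, 1, 5, 2, 3, 0, 0, 0, 0, 0, 0]), [
  .regroup 0 [789] [777, 788],
  .regroup 0 [] [799, 798],
  .regroup 1 [798] [797, 24],
  .rule 2 27 false,
  .regroup 1 [797] [1, 72, 1, 81, 5, 72, 34, 81, 1, 34],
  .rule 10 1 false,
  .rule 9 5 false,
  .rule 8 7 false,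
  .rule 7 1 false,
  .rule 6 6 false,
  .rule 5 0 false,
  .rule 4 7 false,
  .rule 3 5 false,
  .rule 2 6 false,
  .rule 1 5 false,
  .regroup 2 [66, 70, 66, 78, 23, 70, 32, 78, 66, 32] [806],
  .regroup 4 [] [11],
  .regroup 2 [806, 11, 11] [806],
  .regroup 2 [806] [100, 805],
  .regroup 5 [777] [128, 776],
  .regroup 3 [805] [804, 130],
  .rule 4 28 false,
  .regroup 3 [804] [81, 1, 48, 72, 65, 1, 81],
  .rule 9 7 false,
  .rule 8 5 false,
  .rule 7 4 false,
  .rule 6 6 false,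
  .rule 5 3 false,
  .rule 4 5 false,
  .rule 3 7 false,
  .regroup 4 [78, 66, 46, 70, 58, 66, 78] [814],
  .regroup 7 [776] [25, 48, 24, 775],
  .rule 6 22 false,
  .regroup 8 [775] [25, 34, 24, 774],
  .rule 7 20 false,
  .regroup 9 [774] [25, 34, 24, 772],
  .rule 8 20 false,
  .regroup 10 [772] [25, 34, 24, 773],
  .rule 9 20 false,
  .regroup 11 [773] [25, 336, 24, 772],
  .regroup 10 [] [335, 32],
  .rule 11 20 true,
  .regroup 12 [25, 34, 24, 25, 336, 24] [],
  .regroup 12 [772] [25, 68, 24, 771],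
  .regroup 11 [] [174, 70],
  .rule 12 25 true,
  .regroup 13 [25, 72, 24, 25, 68, 24] [],
  .regroup 13 [771] [25, 192, 24, 194],
  .regroup 12 [] [267, 78],
  .rule 13 26 true,
  .regroup 14 [25, 81, 24, 25, 192, 24] [],
  .regroup 14 [194] [25, 17, 24],
  .regroup 13 [] [270, 23],
  .rule 14 19 true,
  .regroup 15 [25, 5, 24, 25, 17, 24] [],
  .regroup 6 [46, 32, 32, 32, 335, 174, 267, 270] [811],
  .regroup 4 [814, 100, 811] [127],
  .regroup 4 [127] [127, 11],
  .regroup 5 [11] [],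
  .regroup 6 [788] [107, 787],
  .rule 1 15 true,
  .regroup 0 [799, 787] [789]])

/-- Derivation 36. -/
def der36 : Der := (([0, 172, 0, 826], [0, 172, 0, 826], [6, -10, -19, -11, -1, -7, -12, -10, -3, 0, 2, -3, 1, 2]), [
  .regroup 3 [826] [815, 827],
  .regroup 0 [] [829, 828],
  .regroup 1 [828] [24, 521],
  .rule 1 8 false,
  .rule 2 39 true,
  .regroup 6 [614, 815] [],
  .regroup 2 [612] [844, 521, 840],
  .regroup 4 [840] [318, 160, 289, 496, 160, 160, 360, 845, 845, 845, 360],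
  .regroup 18 [] [310, 362],
  .rule 15 34 false,
  .regroup 14 [360, 289] [],
  .regroup 17 [] [498, 816],
  .rule 14 38 false,
  .regroup 13 [845, 496] [],
  .regroup 16 [816, 362] [817],
  .regroup 16 [] [498, 816],
  .rule 13 38 false,
  .regroup 12 [845, 496] [],
  .regroup 15 [816, 817] [818],
  .regroup 15 [] [498, 816],
  .rule 12 38 false,
  .regroup 11 [845, 496] [],
  .regroup 14 [816, 818] [819],
  .regroup 14 [] [310, 362],
  .rule 11 34 false,
  .regroup 10 [360, 289] [],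
  .regroup 13 [362, 819] [820],
  .rule 9 32 true,
  .regroup 12 [181, 820] [821],
  .rule 8 32 true,
  .regroup 11 [181, 821] [822],
  .rule 7 38 true,
  .regroup 10 [498, 822] [823],
  .rule 6 34 true,
  .regroup 9 [310, 823] [824],
  .rule 5 32 true,
  .regroup 8 [181, 824] [825],
  .rule 4 35 true,
  .regroup 7 [391, 825] [826],
  .regroup 2 [844] [23, 78, 46, 66, 58, 78, 32],
  .rule 1 0 true,
  .rule 2 7 true,
  .rule 3 3 true,
  .rule 4 5 true,
  .rule 5 4 true,
  .rule 6 7 true,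
  .rule 7 1 true,
  .regroup 1 [5, 81, 48, 1, 65, 81, 34] [851],
  .rule 2 39 true,
  .regroup 1 [851, 612] [852],
  .regroup 5 [614, 826] [827],
  .regroup 5 [827, 827] [],
  .regroup 0 [829, 852] [840],
  .regroup 0 [840] [496, 318, 289, 160, 289, 160, 289, 160, 289],
  .rule 8 34 true,
  .rule 7 32 true,
  .regroup 10 [181, 310] [853],
  .rule 6 34 true,
  .regroup 9 [310, 853] [854],
  .rule 5 32 true,
  .regroup 8 [181, 854] [855],
  .rule 4 34 true,
  .regroup 7 [310, 855] [856],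
  .rule 3 32 true,
  .regroup 6 [181, 856] [857],
  .rule 2 34 true,
  .regroup 5 [310, 857] [858],
  .rule 1 35 true,
  .regroup 4 [391, 858] [859],
  .rule 0 38 true,
  .regroup 3 [498, 859] [826]])

/-- Derivation 37. -/
def der37 : Der := (([0, 872], [0, 872], [4, 8, 1, 5, 0, -1, 2, 3, 3, 1, -3, 0, 0, 0]), [
  .regroup 1 [872] [864, 864, 871],
  .regroup 0 [] [881, 880],
  .regroup 3 [864] [128, 863],
  .regroup 1 [880] [879, 130],
  .rule 2 28 false,
  .regroup 1 [879] [34, 5, 72, 1, 48, 81, 72, 5],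
  .rule 8 0 false,
  .rule 7 6 false,
  .rule 6 7 false,
  .rule 5 3 false,
  .rule 4 5 false,
  .rule 3 6 false,
  .rule 2 0 false,
  .rule 1 1 false,
  .regroup 2 [32, 23, 70, 66, 46, 78, 70, 23] [893],
  .regroup 5 [863] [25, 48, 24, 862],
  .rule 4 22 false,
  .regroup 6 [862] [25, 34, 24, 861],
  .rule 5 20 false,
  .regroup 7 [861] [25, 34, 24, 860],
  .rule 6 20 false,
  .regroup 8 [860] [25, 34, 24, 192],
  .rule 7 20 false,
  .regroup 9 [192] [25, 192, 24],
  .regroup 8 [] [267, 78],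
  .rule 9 26 true,
  .regroup 10 [25, 81, 24, 25, 192, 24] [],
  .regroup 4 [46, 32, 32, 32, 267] [890],
  .regroup 2 [893, 100, 890] [889],
  .regroup 2 [889] [137, 888],
  .regroup 5 [864] [128, 863],
  .regroup 3 [888] [887, 130],
  .rule 4 28 false,
  .regroup 3 [887] [81, 5, 81, 48, 81, 72, 5],
  .rule 9 0 false,
  .rule 8 6 false,
  .rule 7 7 false,
  .rule 6 3 false,
  .rule 5 7 false,
  .rule 4 0 false,
  .rule 3 7 false,
  .regroup 4 [78, 23, 78, 46, 78, 70, 23] [902],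
  .regroup 7 [863] [25, 48, 24, 862],
  .rule 6 22 false,
  .regroup 8 [862] [25, 34, 24, 861],
  .rule 7 20 false,
  .regroup 9 [861] [25, 34, 24, 860],
  .rule 8 20 false,
  .regroup 10 [860] [25, 34, 24, 192],
  .rule 9 20 false,
  .regroup 11 [192] [25, 192, 24],
  .regroup 10 [] [267, 78],
  .rule 11 26 true,
  .regroup 12 [25, 81, 24, 25, 192, 24] [],
  .regroup 6 [46, 32, 32, 32, 267] [890],
  .regroup 4 [902, 100, 890] [900],
  .regroup 4 [900] [137, 899],
  .regroup 7 [871] [128, 870],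
  .regroup 5 [899] [898, 130],
  .rule 6 28 false,
  .regroup 5 [898] [1, 81, 34, 72, 81, 48, 40],
  .rule 11 2 false,
  .rule 10 3 false,
  .rule 9 7 false,
  .rule 8 6 false,
  .rule 7 1 false,
  .rule 6 7 false,
  .rule 5 5 false,
  .regroup 6 [66, 78, 32, 70, 78, 46, 38] [923],
  .regroup 9 [870] [25, 48, 24, 869],
  .rule 8 22 false,
  .regroup 10 [869] [25, 34, 24, 866],
  .rule 9 20 false,
  .regroup 11 [866] [25, 34, 24, 867],
  .rule 10 20 false,
  .regroup 12 [867] [25, 34, 24, 868],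
  .rule 11 20 false,
  .regroup 13 [868] [25, 336, 24, 867],
  .regroup 12 [] [335, 32],
  .rule 13 20 true,
  .regroup 14 [25, 34, 24, 25, 336, 24] [],
  .regroup 14 [867] [25, 336, 24, 866],
  .regroup 13 [] [335, 32],
  .rule 14 20 true,
  .regroup 15 [25, 34, 24, 25, 336, 24] [],
  .regroup 15 [866] [25, 12, 24, 68],
  .regroup 14 [] [308, 66],
  .rule 15 24 true,
  .regroup 16 [25, 1, 24, 25, 12, 24] [],
  .regroup 16 [68] [25, 68, 24],
  .regroup 15 [] [174, 70],
  .rule 16 25 true,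
  .regroup 17 [25, 72, 24, 25, 68, 24] [],
  .regroup 8 [46, 32, 32, 32, 335, 335, 308, 174] [920],
  .regroup 6 [923, 100, 920] [915],
  .regroup 6 [915] [135, 911],
  .rule 1 14 true,
  .regroup 0 [881, 911] [924],
  .regroup 0 [924] [70, 66, 78, 32, 66, 46],
  .rule 5 22 true,
  .regroup 6 [25, 48, 24] [581],
  .rule 4 24 true,
  .regroup 5 [25, 1, 24, 581] [925],
  .rule 3 20 true,
  .regroup 4 [25, 34, 24, 925] [926],
  .rule 2 26 true,
  .regroup 3 [25, 81, 24, 926] [927],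
  .rule 1 24 true,
  .regroup 2 [25, 1, 24, 927] [928],
  .rule 0 25 true,
  .regroup 1 [25, 72, 24, 928] [872]])

/-- Derivation 38. -/
def der38 : Der := (([0, 937], [0, 937], [5, 7, 20, 5, 1, 5, 18, 15, 0, 0, 0, -1, 0, 0]), [
  .regroup 1 [937] [741, 936],
  .regroup 0 [] [942, 941],
  .regroup 1 [941] [940, 173],
  .rule 2 31 false,
  .regroup 1 [940] [34, 1, 65, 48],
  .rule 4 3 false,
  .rule 3 4 false,
  .rule 2 5 false,
  .rule 1 1 false,
  .regroup 2 [32, 66, 58, 46] [950],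
  .regroup 4 [] [11],
  .regroup 2 [950, 11, 11] [950],
  .regroup 2 [950] [135, 949],
  .regroup 7 [741] [417, 740],
  .regroup 3 [949] [948, 416],
  .rule 4 36 false,
  .regroup 3 [948] [40, 81, 40, 1, 5, 81, 72],
  .rule 9 6 false,
  .rule 8 7 false,
  .rule 7 0 false,
  .rule 6 5 false,
  .rule 5 2 false,
  .rule 4 7 false,
  .rule 3 2 false,
  .regroup 4 [38, 78, 38, 66, 23, 78, 70] [958],
  .regroup 9 [740] [391, 739],
  .rule 6 35 false,
  .regroup 10 [739] [391, 738],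
  .rule 7 35 false,
  .regroup 11 [738] [181, 736],
  .rule 8 32 false,
  .regroup 12 [736] [310, 737],
  .rule 9 34 false,
  .regroup 13 [737] [362, 736],
  .regroup 10 [] [360, 289],
  .rule 11 34 true,
  .regroup 14 [310, 362] [],
  .regroup 11 [] [756, 318],
  .rule 12 35 true,
  .regroup 15 [391, 736] [],
  .regroup 6 [318, 318, 160, 289, 360, 756] [751],
  .regroup 4 [958, 392, 751] [956],
  .regroup 4 [956] [137, 955],
  .regroup 5 [955] [955, 11],
  .rule 6 30 false,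
  .regroup 5 [955] [72, 48, 48, 81, 1, 81, 5],
  .rule 11 0 false,
  .rule 10 7 false,
  .rule 9 5 false,
  .rule 8 7 false,
  .rule 7 3 false,
  .rule 6 3 false,
  .rule 5 6 false,
  .regroup 6 [70, 46, 46, 78, 66, 78, 23] [975],
  .regroup 9 [936] [25, 72, 24, 935],
  .rule 8 25 false,
  .regroup 10 [935] [25, 40, 24, 934],
  .rule 9 21 false,
  .regroup 11 [934] [25, 40, 24, 933],
  .rule 10 21 false,
  .regroup 12 [933] [25, 34, 24, 931],
  .rule 11 20 false,
  .regroup 13 [931] [25, 40, 24, 932],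
  .rule 12 21 false,
  .regroup 14 [932] [25, 268, 24, 931],
  .regroup 13 [] [269, 38],
  .rule 14 21 true,
  .regroup 15 [25, 40, 24, 25, 268, 24] [],
  .regroup 15 [931] [25, 68, 24, 930],
  .regroup 14 [] [174, 70],
  .rule 15 25 true,
  .regroup 16 [25, 72, 24, 25, 68, 24] [],
  .regroup 16 [930] [25, 268, 24, 929],
  .regroup 15 [] [269, 38],
  .rule 16 21 true,
  .regroup 17 [25, 40, 24, 25, 268, 24] [],
  .regroup 17 [929] [25, 290, 24, 68],
  .regroup 16 [] [307, 46],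
  .rule 17 22 true,
  .regroup 18 [25, 48, 24, 25, 290, 24] [],
  .regroup 18 [68] [25, 68, 24],
  .regroup 17 [] [174, 70],
  .rule 18 25 true,
  .regroup 19 [25, 72, 24, 25, 68, 24] [],
  .regroup 8 [70, 38, 38, 32, 38, 269, 174, 269, 307, 174] [972],
  .regroup 6 [975, 172, 972] [966],
  .regroup 6 [966] [137, 965],
  .regroup 1 [] [158, 25, 24, 137],
  .rule 3 8 false,
  .regroup 4 [] [158, 25, 24, 137],
  .rule 6 8 false,
  .rule 7 14 true,
  .rule 6 8 true,
  .regroup 4 [158, 25, 24, 137] [],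
  .rule 3 8 true,
  .regroup 1 [158, 25, 24, 137] [],
  .regroup 0 [942, 965] [976],
  .regroup 0 [976] [46, 66, 38, 23, 78, 46],
  .rule 5 22 true,
  .regroup 6 [25, 48, 24] [581],
  .rule 4 26 true,
  .regroup 5 [25, 81, 24, 581] [977],
  .rule 3 19 true,
  .regroup 4 [25, 5, 24, 977] [978],
  .rule 2 21 true,
  .regroup 3 [25, 40, 24, 978] [979],
  .rule 1 24 true,
  .regroup 2 [25, 1, 24, 979] [980],
  .rule 0 22 true,
  .regroup 1 [25, 48, 24, 980] [937]])

/-- Derivation 39. -/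
def der39 : Der := (([0, 172, 0, 1004], [0, 172, 0, 1004], [5, 17, -5, 3, -2, 5, 7, 41, 3, 1, -3, -8, -2, -3]), [
  .regroup 3 [1004] [991, 991, 1003],
  .regroup 0 [] [1008, 1007],
  .regroup 5 [991] [614, 990],
  .regroup 1 [1007] [1006, 612],
  .rule 2 39 false,
  .regroup 1 [1006] [1, 81, 65, 34, 1],
  .rule 5 5 false,
  .rule 4 1 false,
  .rule 3 4 false,
  .rule 2 7 false,
  .rule 1 5 false,
  .regroup 2 [66, 78, 58, 32, 66] [1025],
  .regroup 7 [990] [391, 989],
  .rule 4 35 false,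
  .regroup 8 [989] [181, 988],
  .rule 5 32 false,
  .regroup 9 [988] [310, 987],
  .rule 6 34 false,
  .regroup 10 [987] [498, 986],
  .rule 7 38 false,
  .regroup 11 [986] [181, 985],
  .rule 8 32 false,
  .regroup 12 [985] [181, 984],
  .rule 9 32 false,
  .regroup 13 [984] [362, 983],
  .regroup 10 [] [360, 289],
  .rule 11 34 true,
  .regroup 14 [310, 362] [],
  .regroup 14 [983] [736, 982],
  .regroup 11 [] [756, 318],
  .rule 12 35 true,
  .regroup 15 [391, 736] [],
  .regroup 15 [982] [816, 981],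
  .regroup 12 [] [845, 496],
  .rule 13 38 true,
  .regroup 16 [498, 816] [],
  .regroup 16 [981] [361, 362],
  .regroup 13 [] [194, 160],
  .rule 14 32 true,
  .regroup 17 [181, 361] [],
  .regroup 14 [] [360, 289],
  .rule 15 34 true,
  .regroup 18 [310, 362] [],
  .regroup 4 [318, 160, 289, 496, 160, 160, 360, 756, 845, 194, 360] [1022],
  .regroup 2 [1025, 521, 1022] [1016],
  .regroup 2 [1016] [135, 1015],
  .regroup 7 [991] [614, 990],
  .regroup 3 [1015] [1014, 612],
  .rule 4 39 false,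
  .regroup 3 [1014] [1, 34, 81, 34, 1, 65, 5],
  .rule 9 0 false,
  .rule 8 4 false,
  .rule 7 5 false,
  .rule 6 1 false,
  .rule 5 7 false,
  .rule 4 1 false,
  .rule 3 5 false,
  .regroup 4 [66, 32, 78, 32, 66, 58, 23] [1032],
  .regroup 9 [990] [391, 989],
  .rule 6 35 false,
  .regroup 10 [989] [181, 988],
  .rule 7 32 false,
  .regroup 11 [988] [310, 987],
  .rule 8 34 false,
  .regroup 12 [987] [498, 986],
  .rule 9 38 false,
  .regroup 13 [986] [181, 985],
  .rule 10 32 false,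
  .regroup 14 [985] [181, 984],
  .rule 11 32 false,
  .regroup 15 [984] [362, 983],
  .regroup 12 [] [360, 289],
  .rule 13 34 true,
  .regroup 16 [310, 362] [],
  .regroup 16 [983] [736, 982],
  .regroup 13 [] [756, 318],
  .rule 14 35 true,
  .regroup 17 [391, 736] [],
  .regroup 17 [982] [816, 981],
  .regroup 14 [] [845, 496],
  .rule 15 38 true,
  .regroup 18 [498, 816] [],
  .regroup 18 [981] [361, 362],
  .regroup 15 [] [194, 160],
  .rule 16 32 true,
  .regroup 19 [181, 361] [],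
  .regroup 16 [] [360, 289],
  .rule 17 34 true,
  .regroup 20 [310, 362] [],
  .regroup 6 [318, 160, 289, 496, 160, 160, 360, 756, 845, 194, 360] [1022],
  .regroup 4 [1032, 521, 1022] [1030],
  .regroup 4 [1030] [137, 1029],
  .regroup 9 [1003] [614, 1002],
  .regroup 5 [1029] [1028, 612],
  .rule 6 39 false,
  .regroup 5 [1028] [5, 81, 40, 5, 40],
  .rule 9 2 false,
  .rule 8 0 false,
  .rule 7 2 false,
  .rule 6 7 false,
  .rule 5 0 false,
  .regroup 6 [23, 78, 38, 23, 38] [1042],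
  .regroup 11 [1002] [391, 1001],
  .rule 8 35 false,
  .regroup 12 [1001] [181, 1000],
  .rule 9 32 false,
  .regroup 13 [1000] [310, 999],
  .rule 10 34 false,
  .regroup 14 [999] [498, 998],
  .rule 11 38 false,
  .regroup 15 [998] [181, 997],
  .rule 12 32 false,
  .regroup 16 [997] [181, 996],
  .rule 13 32 false,
  .regroup 17 [996] [816, 995],
  .regroup 14 [] [845, 496],
  .rule 15 38 true,
  .regroup 18 [498, 816] [],
  .regroup 18 [995] [362, 994],
  .regroup 15 [] [360, 289],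
  .rule 16 34 true,
  .regroup 19 [310, 362] [],
  .regroup 19 [994] [361, 993],
  .regroup 16 [] [194, 160],
  .rule 17 32 true,
  .regroup 20 [181, 361] [],
  .regroup 20 [993] [361, 816],
  .regroup 17 [] [194, 160],
  .rule 18 32 true,
  .regroup 21 [181, 361] [],
  .regroup 18 [] [845, 496],
  .rule 19 38 true,
  .regroup 22 [498, 816] [],
  .regroup 8 [318, 160, 289, 496, 160, 160, 845, 360, 194, 194, 845] [1039],
  .regroup 6 [1042, 521, 1039] [1033],
  .regroup 6 [1033] [137, 521],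
  .regroup 1 [] [158, 25, 24, 137],
  .rule 3 8 false,
  .regroup 4 [] [158, 25, 24, 137],
  .rule 6 8 false,
  .rule 7 14 true,
  .rule 6 8 true,
  .regroup 4 [158, 25, 24, 137] [],
  .rule 3 8 true,
  .regroup 1 [158, 25, 24, 137] [],
  .regroup 0 [1008, 521] [1043],
  .regroup 0 [1043] [496, 318, 289, 318, 289, 289, 160, 289, 289, 160, 289],
  .rule 10 34 true,
  .rule 9 32 true,
  .regroup 12 [181, 310] [853],
  .rule 8 34 true,
  .regroup 11 [310, 853] [854],
  .rule 7 34 true,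
  .regroup 10 [310, 854] [1044],
  .rule 6 32 true,
  .regroup 9 [181, 1044] [1045],
  .rule 5 34 true,
  .regroup 8 [310, 1045] [1046],
  .rule 4 34 true,
  .regroup 7 [310, 1046] [1047],
  .rule 3 35 true,
  .regroup 6 [391, 1047] [1048],
  .rule 2 34 true,
  .regroup 5 [310, 1048] [1049],
  .rule 1 35 true,
  .regroup 4 [391, 1049] [1050],
  .rule 0 38 true,
  .regroup 3 [498, 1050] [1004]])

/-- All derivations. -/
def allDers : List Der := [der0, der1, der2, der3, der4, der5, der6, der7, der8, der9, der10, der11, der12, der13, der14, der15, der16, der17, der18, der19, der20, der21, der22, der23, der24, der25, der26, der27, der28, der29, der30, der31, der32, der33, der34, der35, der36, der37, der38, der39]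

/-- The number of auxiliary derivations. -/
def numLemmas : ℕ := 26

/-- The weights of the scalars. -/
def weight : List ℤ := [0, 0, 0, 0, 0, 0, 0, 0, 2, 3, 3, 0, 0, 0]

/-- Each scalar, shifted by its weight, from the closed derivations. -/
def combos : List (List ℤ) := [
  [-14497862723427389973556077275280, -1414715241184128886242944391115, 7460858421613096822889500998251, -819353139920345377579300130636, 1671768231072419490729462867552, 3260503991029613905284551351684, 2561790638680868855747186316510, -2738000722102379571115524585866, -34577072973277574336428641534, -185946759190084757592195235722, 0, 1707860425787245903831457544340, 138308291893110297345714566136, 0],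
  [43493588170282169920668231825841, 4244145723552386658728833173345, -22382575264839290468668502994753, 2458059419761036132737900391908, -5015304693217258472188388602656, -9781511973088841715853654055052, -7685371916042606567241558949530, 8214002166307138713346573757598, 103731218919832723009285924602, 557840277570254272776585707166, 0, -5123581277361737711494372633020, -414924875679330892037143698408, 0],
  [-8860095024784544840549816766907, -864576504069637577218935809448, 4559562733004597770088609168445, -500732198741197805835085666044, 1021669584633502665907131689872, 1992595442535838326761750669676, 1565589971798967367302012380118, -1673277436718673115354192996953, -21131125191791316598918460662, -113637850447614017149403535016, 0, 1043726647865978244868008253412, 84524500767165266395673842648, 0],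
  [5188887111847092263947183233053, 506336542285769712668982190574, -2670293742309066324612045874713, 293252255790365047782602960102, -598337616632940002803132412612, -1166957327430118822107711321378, -916882900734155676902803075707, 979949729844482865313530394818, 12375377787686844518331398467, 66551653899442302595147561811, 0, -611255267156103784601868717138, -49501511150747378073325593868, 0],
  [-448880586795752869059077275320, -43802194828721596355026391092, 231001946299432728188845955093, -25368685388782523961611504490, 51761029805976822019198765068, 100951221063656756415089360630, 79317766147745811542370860685, -84773555539223590447801194095, -1070569993799413219178782405, -5757254843028437847644138895, 0, 52878510765163874361580573790, 4282279975197652876715129620, 0],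
  [-88173967451757415753736213316, -8604099653123554879508808854, 45375894376930789454534403076, -4983190865374150447405037989, 10167459880501181662675048846, 19829927918741213837659326872, 15580451319093707766603995943, -16652136329269239513162032633, -210292907657085474796293992, -1130902106425123123389410685, 0, 10386967546062471844402663962, 841171630628341899185175968, 0],
  [2648819285036388944409523223, 258474306535407349851862965, -1363129590002280539318137444, 149699196335268656157070033, -305438947453969027087250984, -595707520145123338233757093, -468049710320293635565699749, 500244018963493839283903321, 6317373771495889031496550, 33973239444239568074600265, 0, -312033140213529090377133166, -25269495085983556125986200, 0],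
  [4285827580658039332614528, 418215133851870502159768, -2205563220505849256740249, 242215445983972941407311, -494204596214044286647074, -963863308556476406105680, -757311141964961366917056, 809401994935834917008130, 10221601337680847565041, 54969188512390821726835, 0, -504874094643307577944704, -40886405350723390260164, 0],
  [109517671559658834144, 10686838611327325136, -56359744726439989984, 6189439766467725975, -12628631374651189246, -24630030785953072448, -19351910769460885512, 20683011664110196472, 261197156685902528, 1404652291793006040, 0, -12901273846307257008, -1044788626743610112, 0],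
  [109517671559658834144, 10686838611327325136, -56359744726439989984, 6189439766467725975, -12628631374651189246, -24630030785953072448, -19351910769460885512, 20683011664110196472, 261197156685902528, 1404652291793006040, 0, -12901273846307257008, -1044788626743610112, 0],
  [117007672819419536, 11417720061980678, -60214232801187569, 6612740508602318, -13492313587376692, -26314498315143008, -20675403444002278, 22097539394782790, 279060639398440, 1500717586874853, 0, -13783602296001519, -1116242557593760, 0],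
  [79489908488286, 7756700915438, -40906922936975, 4492407422690, -9166089253062, -17876922193078, -14045967141477, 15012104266174, 189581624469, 1019522060162, 0, -9363978094318, -758326497877, 0],
  [3514550034, 342953136, -1808650056, 198626348, -405267534, -790406460, -621025422, 663742013, 8382127, 45076923, -3, -414016948, -33528483, -2],
  [-143856, -14039, 74030, -8127, 16587, 32349, 25417, -27171, -346, -1837, 2, 16945, 1370, 1]]

end CfsgLib.Schur.LyonsMult
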