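import Cfsg.Agent.Lib.Schur.LyonsMult.Elems
import Cfsg.Agent.Lib.Schur.LyonsMult.DataSteps

/-!
The checked derivations for the trivial multiplier of the Lyons group.
-/

set_option autoImplicit false
set_option maxRecDepth 100000
set_option Elab.async false

namespace CfsgLib.Schur.LyonsMult

theorem checkDers_append {mulc : ℕ → ℕ → ℕ} {one : ℕ} {codes : ℕ → ℕ} {N : ℕ} :
    ∀ (l m : List Der) (rules : List Rule), checkDers mulc one codes N rules (l ++ m) =
      (checkDers mulc one codes N rules l && checkDers mulc one codes N (rules ++ l.map Prod.fst) m)
  | [], m, rules => by simp [checkDers]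
  | d :: l, m, rules => by
    rw [List.cons_append, checkDers, checkDers, checkDers_append l m, Bool.and_assoc]
    simp [List.append_assoc]

/-- The rules available after `n` derivations. -/
def rulesAt (n : ℕ) : List Rule := baseRules ++ (allDers.take n).map Prod.fst

/-- The derivations numbered from `a` up to `b`. -/
noncomputable def chunkOK (a b : ℕ) : Bool :=
  checkDers mulC oneCode code numElems (rulesAt a) ((allDers.take b).drop a)

theorem chunk_step {a b : ℕ} (hab : a ≤ b) (h1 : checkDers mulC oneCode code numElems baseRules (allDers.take a) = true)
    (h2 : chunkOK a b = true) : checkDers mulC oneCode code numElems baseRules (allDers.take b) = true := by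
  have e : allDers.take b = allDers.take a ++ (allDers.take b).drop a := by
    conv_lhs => rw [← List.take_append_drop a (allDers.take b)]
    rw [List.take_take, min_eq_left hab]
  rw [e, checkDers_append, h1, Bool.true_and]
  exact h2

theorem chunk0_ok : chunkOK 0 14 = true := by decide +kernel

theorem chunk1_ok : chunkOK 14 19 = true := by decide +kernel

theorem chunk2_ok : chunkOK 19 20 = true := by decide +kernel

theorem chunk3_ok : chunkOK 20 21 = true := by decide +kernel

theorem chunk4_ok : chunkOK 21 22 = true := by decide +kernel

theorem chunk5_ok : chunkOK 22 23 = true := by decide +kernel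

theorem chunk6_ok : chunkOK 23 24 = true := by decide +kernel

theorem chunk7_ok : chunkOK 24 25 = true := by decide +kernel

theorem chunk8_ok : chunkOK 25 26 = true := by decide +kernel

theorem chunk9_ok : chunkOK 26 27 = true := by decide +kernel

theorem chunk10_ok : chunkOK 27 28 = true := by decide +kernel

theorem chunk11_ok : chunkOK 28 29 = true := by decide +kernel

theorem chunk12_ok : chunkOK 29 30 = true := by decide +kernel

theorem chunk13_ok : chunkOK 30 31 = true := by decide +kernel

theorem chunk14_ok : chunkOK 31 32 = true := by decide +kernel

theorem chunk15_ok : chunkOK 32 33 = true := by decide +kernel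

theorem chunk16_ok : chunkOK 33 34 = true := by decide +kernel

theorem chunk17_ok : chunkOK 34 35 = true := by decide +kernel

theorem chunk18_ok : chunkOK 35 36 = true := by decide +kernel

theorem chunk19_ok : chunkOK 36 37 = true := by decide +kernel

theorem chunk20_ok : chunkOK 37 38 = true := by decide +kernel

theorem chunk21_ok : chunkOK 38 39 = true := by decide +kernel

theorem chunk22_ok : chunkOK 39 40 = true := by decide +kernel

theorem ders_ok : checkDers mulC oneCode code numElems baseRules allDers = true := by
  have h0 : checkDers mulC oneCode code numElems baseRules (allDers.take 0) = true := rfl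
  have h1 := chunk_step (a := 0) (b := 14) (by omega) h0 chunk0_ok
  have h2 := chunk_step (a := 14) (b := 19) (by omega) h1 chunk1_ok
  have h3 := chunk_step (a := 19) (b := 20) (by omega) h2 chunk2_ok
  have h4 := chunk_step (a := 20) (b := 21) (by omega) h3 chunk3_ok
  have h5 := chunk_step (a := 21) (b := 22) (by omega) h4 chunk4_ok
  have h6 := chunk_step (a := 22) (b := 23) (by omega) h5 chunk5_ok
  have h7 := chunk_step (a := 23) (b := 24) (by omega) h6 chunk6_ok
  have h8 := chunk_step (a := 24) (b := 25) (by omega) h7 chunk7_ok
  have h9 := chunk_step (a := 25) (b := 26) (by omega) h8 chunk8_ok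
  have h10 := chunk_step (a := 26) (b := 27) (by omega) h9 chunk9_ok
  have h11 := chunk_step (a := 27) (b := 28) (by omega) h10 chunk10_ok
  have h12 := chunk_step (a := 28) (b := 29) (by omega) h11 chunk11_ok
  have h13 := chunk_step (a := 29) (b := 30) (by omega) h12 chunk12_ok
  have h14 := chunk_step (a := 30) (b := 31) (by omega) h13 chunk13_ok
  have h15 := chunk_step (a := 31) (b := 32) (by omega) h14 chunk14_ok
  have h16 := chunk_step (a := 32) (b := 33) (by omega) h15 chunk15_ok
  have h17 := chunk_step (a := 33) (b := 34) (by omega) h16 chunk16_ok
  have h18 := chunk_step (a := 34) (b := 35) (by omega) h17 chunk17_ok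
  have h19 := chunk_step (a := 35) (b := 36) (by omega) h18 chunk18_ok
  have h20 := chunk_step (a := 36) (b := 37) (by omega) h19 chunk19_ok
  have h21 := chunk_step (a := 37) (b := 38) (by omega) h20 chunk20_ok
  have h22 := chunk_step (a := 38) (b := 39) (by omega) h21 chunk21_ok
  have h23 := chunk_step (a := 39) (b := 40) (by omega) h22 chunk22_ok
  rwa [List.take_of_length_le (show allDers.length ≤ 40 by simp [allDers])] at h23

end CfsgLib.Schur.LyonsMult
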