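import Mathlib

/-!
Checked rewriting of words in a group with a section of a subgroup and central scalars.

An item is a number: `0` stands for a fixed element, `n + 1` for the lift of the `n`th tabled element of the
subgroup.  A rule says that two words differ by a scalar given by an exponent vector.
-/

set_option autoImplicit false

namespace CfsgLib.Schur.LyonsMult

/-- The number of scalars. -/
def dimV : ℕ := 14

/-- The zero vector. -/
def zeroV : List ℤ := List.replicate dimV 0

/-- The sum of two vectors. -/
def addV (a b : List ℤ) : List ℤ := (List.range dimV).map fun i => a.getD i 0 + b.getD i 0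

/-- The opposite of a vector. -/
def negV (a : List ℤ) : List ℤ := (List.range dimV).map fun i => -a.getD i 0

/-- An integer multiple of a vector. -/
def smulV (c : ℤ) (a : List ℤ) : List ℤ := (List.range dimV).map fun i => c * a.getD i 0

/-- A rule: left side, right side, exponent vector. -/
abbrev Rule : Type := List ℕ × List ℕ × List ℤ

/-- A step: regrouping of tabled elements, or a rule in either direction, at a position. -/
inductive Step where
  | regroup (i : ℕ) (a b : List ℕ)
  | rule (i k : ℕ) (fwd : Bool)

/-- A derivation: a rule to prove and its steps. -/
abbrev Der : Type := Rule × List Step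

section check

variable (mulc : ℕ → ℕ → ℕ) (one : ℕ) (codes : ℕ → ℕ) (N : ℕ)

/-- The code of a product of tabled elements. -/
def segCode (a : List ℕ) : ℕ := a.foldl (fun acc x => mulc acc (codes (x - 1))) one

/-- Only tabled elements. -/
def tabled (a : List ℕ) : Bool := a.all fun x => Nat.ble 1 x && Nat.ble x N

/-- Replace the segment `a` at position `i` by `b`. -/
def replaceAt (word : List ℕ) (i : ℕ) (a b : List ℕ) : Option (List ℕ) :=
  if (word.drop i).take a.length == a then some (word.take i ++ b ++ word.drop (i + a.length)) else none

/-- Perform one step. -/
def stepRun (rules : List Rule) (st : List ℕ × List ℤ) : Step → Option (List ℕ × List ℤ)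
  | .regroup i a b =>
    if tabled N a && tabled N b && segCode mulc one codes a == segCode mulc one codes b then
      (replaceAt st.1 i a b).map fun w => (w, st.2)
    else none
  | .rule i k fwd =>
    match rules[k]? with
    | none => none
    | some r =>
      if fwd then (replaceAt st.1 i r.1 r.2.1).map fun w => (w, addV st.2 r.2.2)
      else (replaceAt st.1 i r.2.1 r.1).map fun w => (w, addV st.2 (negV r.2.2))

/-- Perform a list of steps. -/
def runSteps (rules : List Rule) : List Step → List ℕ × List ℤ → Option (List ℕ × List ℤ)
  | [], st => some st
  | s :: l, st =>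
    match stepRun mulc one codes N rules st s with
    | none => none
    | some st' => runSteps rules l st'

/-- Check derivations, each allowed to use the rules before it. -/
def checkDers : List Rule → List Der → Bool
  | _, [] => true
  | rules, d :: l =>
    (match runSteps mulc one codes N rules d.2 (d.1.1, zeroV) with
      | none => false
      | some st => st.1 == d.1.2.1 && st.2 == (List.range dimV).map fun i => d.1.2.2.getD i 0) &&
      checkDers (rules ++ [d.1]) l

end check

section sound

variable {E : Type*} [Group E]

/-- The centre as a commutative group. -/
@[reducible] def centerComm (E : Type*) [Group E] : CommGroup (Subgroup.center E) :=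
  { (inferInstance : Group (Subgroup.center E)) with
    mul_comm := fun a b => Subtype.ext (Subgroup.mem_center_iff.1 b.2 a) }

variable (u : Fin dimV → Subgroup.center E) (val : ℕ → E)

/-- The scalar of a vector. -/
noncomputable def scal (v : List ℤ) : Subgroup.center E :=
  let := centerComm E
  ∏ i : Fin dimV, u i ^ v.getD (i : ℕ) 0

/-- The value of a word. -/
def evI (w : List ℕ) : E := (w.map val).prod

/-- A rule holds. -/
def Holds (r : Rule) : Prop := evI val r.1 = evI val r.2.1 * (scal u r.2.2 : E)

theorem getD_range_map (f : ℕ → ℤ) {i : ℕ} (h : i < dimV) : ((List.range dimV).map f).getD i 0 = f i := by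
  simp [List.getD_eq_getElem?_getD, h]

theorem scal_addV (a b : List ℤ) : scal u (addV a b) = scal u a * scal u b := by
  let := centerComm E
  simp only [scal]
  rw [← Finset.prod_mul_distrib]
  refine Finset.prod_congr rfl fun i _ => ?_
  rw [addV, getD_range_map _ i.2, zpow_add]

theorem scal_negV (a : List ℤ) : scal u (negV a) = (scal u a)⁻¹ := by
  let := centerComm E
  simp only [scal]
  rw [← Finset.prod_inv_distrib]
  refine Finset.prod_congr rfl fun i _ => ?_
  rw [negV, getD_range_map _ i.2, zpow_neg]

theorem scal_smulV (c : ℤ) (a : List ℤ) : scal u (smulV c a) = scal u a ^ c := by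
  let := centerComm E
  simp only [scal]
  rw [← Finset.prod_zpow]
  refine Finset.prod_congr rfl fun i _ => ?_
  rw [smulV, getD_range_map _ i.2, mul_comm, zpow_mul]

theorem scal_congr {a b : List ℤ} (h : ∀ i < dimV, a.getD i 0 = b.getD i 0) : scal u a = scal u b := by
  simp only [scal]
  exact congrArg _ (funext fun i => by rw [h i i.2])

theorem scal_zeroV : scal u zeroV = 1 := by
  let := centerComm E
  simp only [scal]
  refine Finset.prod_eq_one fun i _ => ?_
  simp [zeroV, List.getD_eq_getElem?_getD, i.2]

theorem evI_append (a b : List ℕ) : evI val (a ++ b) = evI val a * evI val b := by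
  simp [evI]

theorem center_move (c : Subgroup.center E) (x : E) : (c : E) * x = x * (c : E) :=
  (Subgroup.mem_center_iff.1 c.2 x).symm

/-- Replacing a segment. -/
theorem replaceAt_sound {word word' a b : List ℕ} {i : ℕ} (h : replaceAt word i a b = some word')
    {c : Subgroup.center E} (hab : evI val a = evI val b * (c : E)) :
    evI val word = evI val word' * (c : E) := by
  unfold replaceAt at h
  split_ifs at h with hseg
  cases h
  have hseg' : (word.drop i).take a.length = a := beq_iff_eq.1 hseg
  have hsplit : word = word.take i ++ (a ++ word.drop (i + a.length)) := by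
    rw [← List.drop_drop]
    conv_lhs => rw [← List.take_append_drop i word, ← List.take_append_drop a.length (word.drop i), hseg']
  conv_lhs => rw [hsplit]
  simp only [evI_append, hab, mul_assoc]
  rw [center_move c]

variable {mulc : ℕ → ℕ → ℕ} {one : ℕ} {codes : ℕ → ℕ} {N : ℕ}

variable (hseg : ∀ a b : List ℕ, tabled N a = true → tabled N b = true →
  segCode mulc one codes a = segCode mulc one codes b → evI val a = evI val b)

include hseg

theorem stepRun_sound {rules : List Rule} (hr : ∀ r ∈ rules, Holds u val r) {st st' : List ℕ × List ℤ}
    {s : Step} (h : stepRun mulc one codes N rules st s = some st') {x : E}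
    (hx : x = evI val st.1 * (scal u st.2 : E)) : x = evI val st'.1 * (scal u st'.2 : E) := by
  cases s with
  | regroup i a b =>
    simp only [stepRun] at h
    split_ifs at h with hc
    simp only [Bool.and_eq_true, beq_iff_eq] at hc
    obtain ⟨w, hw, rfl⟩ := Option.map_eq_some_iff.1 h
    have := replaceAt_sound val hw (c := (1 : Subgroup.center E))
      (by rw [hseg a b hc.1.1 hc.1.2 hc.2]; simp)
    rw [hx, this]
    simp
  | rule i k fwd =>
    simp only [stepRun] at h
    cases hk : rules[k]? with
    | none => rw [hk] at h; simp at h
    | some r =>
      rw [hk] at h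
      have hrule : Holds u val r := hr r (List.mem_of_getElem? hk)
      cases fwd with
      | true =>
        obtain ⟨w, hw, rfl⟩ := Option.map_eq_some_iff.1 (by simpa using h)
        rw [hx, replaceAt_sound val hw (c := scal u r.2.2) hrule, mul_assoc,
          center_move (scal u r.2.2), scal_addV, Subgroup.coe_mul]
      | false =>
        obtain ⟨w, hw, rfl⟩ := Option.map_eq_some_iff.1 (by simpa using h)
        have hrev : evI val r.2.1 = evI val r.1 * (((scal u r.2.2)⁻¹ : Subgroup.center E) : E) := by
          rw [hrule]; simp
        rw [hx, replaceAt_sound val hw hrev, mul_assoc, center_move (scal u r.2.2)⁻¹, scal_addV, scal_negV,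
          Subgroup.coe_mul]

theorem runSteps_sound {rules : List Rule} (hr : ∀ r ∈ rules, Holds u val r) :
    ∀ (l : List Step) (st st' : List ℕ × List ℤ), runSteps mulc one codes N rules l st = some st' →
      evI val st.1 * (scal u st.2 : E) = evI val st'.1 * (scal u st'.2 : E)
  | [], st, st', h => by cases h; rfl
  | s :: l, st, st', h => by
    simp only [runSteps] at h
    cases h1 : stepRun mulc one codes N rules st s with
    | none => rw [h1] at h; simp at h
    | some st1 =>
      rw [h1] at h
      exact (stepRun_sound u val hseg hr h1 rfl).trans (runSteps_sound hr l st1 st' h)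

theorem checkDers_sound : ∀ (l : List Der) (rules : List Rule), checkDers mulc one codes N rules l = true →
    (∀ r ∈ rules, Holds u val r) → ∀ r ∈ rules ++ l.map Prod.fst, Holds u val r
  | [], rules, _, hr => by simpa using hr
  | d :: l, rules, h, hr => by
    simp only [checkDers, Bool.and_eq_true] at h
    obtain ⟨h1, h2⟩ := h
    have hd : Holds u val d.1 := by
      cases hrun : runSteps mulc one codes N rules d.2 (d.1.1, zeroV) with
      | none => rw [hrun] at h1; simp at h1
      | some st =>
        rw [hrun] at h1
        simp only [Bool.and_eq_true, beq_iff_eq] at h1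
        have := runSteps_sound u val hseg hr _ _ _ hrun
        rw [scal_zeroV] at this
        simp only [Subgroup.coe_one, mul_one] at this
        rw [Holds, this, h1.1, h1.2, scal_congr u fun i hi => getD_range_map _ hi]
    have := checkDers_sound l (rules ++ [d.1]) h2 (by
      intro r hm
      rcases List.mem_append.1 hm with hm | hm
      · exact hr r hm
      · rw [List.mem_singleton.1 hm]; exact hd)
    simpa [List.append_assoc] using this

end sound

end CfsgLib.Schur.LyonsMult
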