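import Cfsg.Agent.Lib.Presented.Ly.ToLy
import Cfsg.Agent.Lib.Sporadic.MatModP
import Cfsg.Agent.Lib.Schur.LyonsMult.Engine
import Cfsg.Agent.Lib.Schur.LyonsMult.DataElems

/-!
The tabled elements of G₂(5): each packed matrix is the adjoint matrix of an element of the group on five
generators.
-/

set_option autoImplicit false
set_option maxRecDepth 100000

namespace CfsgLib.Schur.LyonsMult

open CfsgLib.Presented CfsgLib.Presented.Ly CfsgLib.Sporadic MatCheck

/-- The packed product of adjoint matrices. -/
noncomputable def mulC : ℕ → ℕ → ℕ := mulP 14 10 3 5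

/-- The matrix of a code. -/
noncomputable def decC (c : ℕ) : Matrix (Fin 14) (Fin 14) (ZMod 5) := decP 14 10 3 5 c

/-- The code of a tabled element. -/
noncomputable def code (n : ℕ) : ℕ := codeTree.get n

/-- Letter codes carry the letter matrices, the unit code the identity. -/
noncomputable def lettersOK : Bool :=
  ((List.range 10).all fun x => (List.finRange 14).all fun i => (List.finRange 14).all fun j =>
    decide ((entP 14 10 3 (code x) i j : ZMod 5) = mat 14 5 LyAdj.gens x i j)) &&
  (List.finRange 14).all fun i => (List.finRange 14).all fun j =>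
    decide ((entP 14 10 3 oneCode i j : ZMod 5) = (1 : Matrix (Fin 14) (Fin 14) (ZMod 5)) i j)

theorem lettersOK_eq : lettersOK = true := by decide +kernel

/-- One line of the table. -/
noncomputable def opOK (n : ℕ) : Bool :=
  match opTree.get n with
  | (0, x, _) => Nat.beq x n && Nat.blt x 10
  | (1, i, j) => Nat.blt i n && Nat.blt j n && Nat.beq (code n) (mulC (code i) (code j))
  | (2, i, _) => Nat.blt i n && Nat.beq (mulC (code n) (code i)) oneCode
  | (_, _, _) => Nat.beq (code n) oneCode

theorem opsOK_eq : (List.range numElems).all opOK = true := by decide +kernel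

theorem decC_mulC (a b : ℕ) : decC (mulC a b) = decC a * decC b :=
  decP_mulP (by norm_num) (by norm_num) (by norm_num) a b

/-- The adjoint matrix of an element. -/
noncomputable def rho (h : H5) : Matrix (Fin 14) (Fin 14) (ZMod 5) := reidx.symm (chevHom h).val

theorem rho_mul (g h : H5) : rho (g * h) = rho g * rho h := by
  rw [rho, rho, rho, map_mul, Units.val_mul, map_mul]

theorem rho_one : rho 1 = 1 := by rw [rho, map_one, Units.val_one, map_one]

theorem rho_injective : Function.Injective rho := fun _ _ h =>
  card_H5.2 (Units.ext (reidx.symm.injective h))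

theorem rho_ev {x : ℕ} (hx : x < 10) : rho (ev x) = mat 14 5 LyAdj.gens x := by
  have h := val_evW (w := [x]) (by simpa using hx)
  simp only [evW_cons, evW_nil, mul_one, List.map_cons, List.map_nil, List.prod_cons, List.prod_nil] at h
  rw [rho, chevHom_ev, h]
  exact reidx.symm_apply_apply _

theorem decC_one : decC oneCode = 1 := by
  have h := lettersOK_eq
  simp only [lettersOK, Bool.and_eq_true, List.all_eq_true, decide_eq_true_eq] at h
  ext i j
  exact h.2 i (List.mem_finRange _) j (List.mem_finRange _)

theorem decC_letter {x : ℕ} (hx : x < 10) : decC (code x) = rho (ev x) := by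
  have h := lettersOK_eq
  simp only [lettersOK, Bool.and_eq_true, List.all_eq_true, decide_eq_true_eq] at h
  rw [rho_ev hx]
  ext i j
  exact h.1 x (List.mem_range.2 hx) i (List.mem_finRange _) j (List.mem_finRange _)

theorem exists_elem (n : ℕ) : n < numElems → ∃ h : H5, rho h = decC (code n) := by
  induction n using Nat.strong_induction_on with
  | _ n ih =>
    intro hn
    have h := opsOK_eq
    simp only [List.all_eq_true, List.mem_range] at h
    have h' := h n hn
    unfold opOK at h'
    split at h' <;> (try simp only [Bool.and_eq_true, Nat.blt_eq] at h')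
    · obtain rfl := Nat.eq_of_beq_eq_true h'.1
      exact ⟨ev _, (decC_letter h'.2).symm⟩
    · obtain ⟨⟨hi, hj⟩, hc⟩ := h'
      obtain ⟨g, hg⟩ := ih _ hi (hi.trans hn)
      obtain ⟨g', hg'⟩ := ih _ hj (hj.trans hn)
      exact ⟨g * g', by rw [rho_mul, hg, hg', Nat.eq_of_beq_eq_true hc, decC_mulC]⟩
    · obtain ⟨hi, hc⟩ := h'
      obtain ⟨g, hg⟩ := ih _ hi (hi.trans hn)
      have e : decC (code n) * rho g = 1 := by
        rw [hg, ← decC_mulC, Nat.eq_of_beq_eq_true hc, decC_one]
      refine ⟨g⁻¹, ?_⟩
      rw [← one_mul (rho g⁻¹), ← e, mul_assoc, ← rho_mul, mul_inv_cancel, rho_one, mul_one]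
    · exact ⟨1, by rw [Nat.eq_of_beq_eq_true h', decC_one, rho_one]⟩

open Classical in
/-- The tabled element. -/
noncomputable def elem (n : ℕ) : H5 := if h : n < numElems then (exists_elem n h).choose else 1

theorem rho_elem {n : ℕ} (hn : n < numElems) : rho (elem n) = decC (code n) := by
  rw [elem, dif_pos hn]
  exact (exists_elem n hn).choose_spec

theorem elem_letter {x : ℕ} (hx : x < 10) : elem x = ev x := by
  have hn : x < numElems := hx.trans_le (by decide)
  exact rho_injective (by rw [rho_elem hn, decC_letter hx])

/-- The product of a word of tabled elements, items counted from one. -/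
noncomputable def elemWord (a : List ℕ) : H5 := (a.map fun x => elem (x - 1)).prod

theorem rho_elemWord {a : List ℕ} (h : tabled numElems a = true) :
    rho (elemWord a) = decC (segCode mulC oneCode code a) := by
  suffices key : ∀ (l : List ℕ), tabled numElems l = true → ∀ acc : ℕ,
      decC (l.foldl (fun acc x => mulC acc (code (x - 1))) acc) = decC acc * rho (elemWord l) by
    rw [segCode, key a h, decC_one, one_mul]
  intro l hl
  induction l with
  | nil => intro acc; simp [elemWord, rho_one]
  | cons x l ih =>
    intro acc
    simp only [tabled, List.all_cons, Bool.and_eq_true, Nat.ble_eq] at hl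
    rw [List.foldl_cons, ih hl.2, decC_mulC, mul_assoc]
    simp only [elemWord, List.map_cons, List.prod_cons]
    rw [rho_mul, rho_elem (by omega : x - 1 < numElems)]

theorem elemWord_congr {a b : List ℕ} (ha : tabled numElems a = true) (hb : tabled numElems b = true)
    (h : segCode mulC oneCode code a = segCode mulC oneCode code b) : elemWord a = elemWord b :=
  rho_injective (by rw [rho_elemWord ha, rho_elemWord hb, h])

/-- Letters become items. -/
def items (w : List ℕ) : List ℕ := w.map (· + 1)

theorem elemWord_items {w : List ℕ} (h : ∀ x ∈ w, x < 10) : elemWord (items w) = evW ev w := by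
  rw [elemWord, items, List.map_map, evW]
  exact congrArg List.prod (List.map_congr_left fun x hx => by simp [elem_letter (h x hx)])

/-- A tabled element with the code of a word. -/
noncomputable def isWord (n : ℕ) (w : List ℕ) : Bool :=
  Nat.blt n numElems && w.all (fun x => Nat.blt x 10) &&
    Nat.beq (segCode mulC oneCode code [n + 1]) (segCode mulC oneCode code (items w))

theorem elem_of_isWord {n : ℕ} {w : List ℕ} (h : isWord n w = true) : elem n = evW ev w := by
  simp only [isWord, Bool.and_eq_true, List.all_eq_true, Nat.blt_eq] at h
  obtain ⟨⟨hn, hw⟩, hc⟩ := h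
  have ht : tabled numElems [n + 1] = true := by simp [tabled, Nat.ble_eq]; omega
  have ht' : tabled numElems (items w) = true := by
    simp only [tabled, items, List.all_eq_true, List.mem_map, Bool.and_eq_true, Nat.ble_eq]
    rintro _ ⟨x, hx, rfl⟩
    have := hw x hx
    have : 10 ≤ numElems := by decide
    omega
  rw [← elemWord_items hw, ← elemWord_congr ht ht' (Nat.eq_of_beq_eq_true hc)]
  simp [elemWord]

section val

variable {E : Type*} [Group E] (z : E) (s : H5 →* E)

/-- The value of an item. -/
noncomputable def val : ℕ → E
  | 0 => z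
  | n + 1 => s (elem n)

theorem evI_tabled {a : List ℕ} (h : tabled numElems a = true) : evI (val z s) a = s (elemWord a) := by
  rw [evI, elemWord, map_list_prod, List.map_map]
  refine congrArg List.prod (List.map_congr_left fun x hx => ?_)
  simp only [tabled, List.all_eq_true, Bool.and_eq_true, Nat.ble_eq] at h
  obtain ⟨y, rfl⟩ : ∃ y, x = y + 1 := ⟨x - 1, by have := (h x hx).1; omega⟩
  rfl

theorem val_seg : ∀ a b : List ℕ, tabled numElems a = true → tabled numElems b = true →
    segCode mulC oneCode code a = segCode mulC oneCode code b → evI (val z s) a = evI (val z s) b := by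
  intro a b ha hb h
  rw [evI_tabled z s ha, evI_tabled z s hb, elemWord_congr ha hb h]

end val

end CfsgLib.Schur.LyonsMult
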