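import Cfsg.Agent.Lib.Schur.LyonsMult.Checks

/-!
The scalars of a lift: the base rules hold, and all scalars are powers of one.
-/

set_option autoImplicit false
set_option maxRecDepth 100000

namespace CfsgLib.Schur.LyonsMult

open CfsgLib.Presented CfsgLib.Presented.Ly

/-- A multiple of a unit vector. -/
def singleV (k : ℕ) (c : ℤ) : List ℤ := (List.range dimV).map fun i => if i = k then c else 0

section scal

variable {E : Type*} [Group E] (u : Fin dimV → Subgroup.center E)

theorem scal_singleV (k : Fin dimV) (c : ℤ) : scal u (singleV k c) = u k ^ c := by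
  let := centerComm E
  simp only [scal]
  rw [Finset.prod_eq_single k]
  · rw [singleV, getD_range_map _ k.2, if_pos rfl]
  · intro i _ hi
    rw [singleV, getD_range_map _ i.2, if_neg (fun h => hi (Fin.ext h)), zpow_zero]
  · exact fun h => absurd (Finset.mem_univ k) h

/-- A combination of vectors. -/
def combineV : List ℤ → List (List ℤ) → List ℤ
  | c :: cs, v :: vs => addV (smulV c v) (combineV cs vs)
  | _, _ => zeroV

theorem scal_combineV : ∀ (cs : List ℤ) (vs : List (List ℤ)), (∀ v ∈ vs, scal u v = 1) →
    scal u (combineV cs vs) = 1
  | [], _, _ => by rw [combineV]; exacts [scal_zeroV u, by simp]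
  | _ :: _, [], _ => by rw [combineV]; exacts [scal_zeroV u, by simp]
  | c :: cs, v :: vs, h => by
    rw [combineV, scal_addV, scal_smulV, h v List.mem_cons_self, one_zpow, one_mul,
      scal_combineV cs vs fun w hw => h w (List.mem_cons_of_mem _ hw)]

end scal

/-- An item for each of twelve letters. -/
def letterItem (x : ℕ) : List ℕ := if x < 10 then [x + 1] else if x = 10 then [0] else [uiIdx + 1, 0]

/-- The items of a relator word. -/
noncomputable def relItems (i : ℕ) : List ℕ := (relWord i).flatMap letterItem

/-- The base rule with a given number. -/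
noncomputable def ruleOf (k : ℕ) : Rule :=
  if k < 8 then ([0, kxIdx.getD k 0 + 1], [thIdx.getD k 0 + 1, 0], singleV k (-1))
  else if k = 8 then ([0, 0], [uIdx + 1], singleV 8 1)
  else (relItems (k + 72), [], addV (singleV 8 ([0, 0, 2, 2, 2].getD (k - 9) 0)) (singleV k 1))

theorem baseRules_eq : baseRules = (List.range 14).map ruleOf := by decide +kernel

/-- The closed derivations. -/
def closedDers : List Der := allDers.drop numLemmas

/-- The vector of a scalar times the inverse power of the common one. -/
def targetV (k : ℕ) : List ℤ :=
  addV (singleV k 1) (smulV (-weight.getD k 0) (addV (singleV 9 1) (singleV 8 (-1))))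

theorem closed_shape : (closedDers.all fun d => d.1.1 == d.1.2.1) = true := by decide +kernel

theorem combos_ok : ((List.range 14).all fun k =>
    combineV (combos.getD k []) (closedDers.map fun d => d.1.2.2) == targetV k) = true := by decide +kernel

/-- The index eight. -/
def i8 : Fin dimV := ⟨8, by decide⟩

/-- The index nine. -/
def i9 : Fin dimV := ⟨9, by decide⟩

section lift

variable {E : Type*} [Group E] (u : Fin dimV → Subgroup.center E) {z : E} {s : H5 →* E}
  (hb : ∀ r ∈ baseRules, Holds u (val z s) r)

include hb

theorem scal_closed : ∀ v ∈ closedDers.map (fun d => d.1.2.2), scal u v = 1 := by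
  intro v hv
  obtain ⟨d, hd, rfl⟩ := List.mem_map.1 hv
  have h : Holds u (val z s) d.1 := checkDers_sound u (val z s) (val_seg z s) _ _ ders_ok hb d.1
    (List.mem_append_right _ (List.mem_map_of_mem (List.mem_of_mem_drop hd)))
  have he := closed_shape
  simp only [List.all_eq_true, beq_iff_eq] at he
  rw [Holds, he d hd] at h
  exact Subtype.ext (mul_left_cancel (h.symm.trans (mul_one _).symm))

/-- All scalars are powers of one. -/
theorem scalar_eq (k : Fin dimV) : u k = (u i9 * (u i8)⁻¹) ^ weight.getD k 0 := by
  have hk := combos_ok
  simp only [List.all_eq_true, List.mem_range, beq_iff_eq] at hk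
  have h := scal_combineV u (combos.getD k []) _ (scal_closed u hb)
  rw [hk k k.2, targetV, scal_addV, scal_smulV, scal_addV, scal_singleV u k, zpow_one] at h
  have h9 := scal_singleV u i9 1
  have h8 := scal_singleV u i8 (-1)
  rw [show ((i9 : Fin dimV) : ℕ) = 9 from rfl, zpow_one] at h9
  rw [show ((i8 : Fin dimV) : ℕ) = 8 from rfl, zpow_neg, zpow_one] at h8
  rw [h9, h8, zpow_neg] at h
  exact mul_inv_eq_one.1 h

end lift

end CfsgLib.Schur.LyonsMult
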