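import Cfsg.Agent.Lib.Presented.Ly.ToLy
import Cfsg.Agent.Lib.Schur.Criteria
import Cfsg.Agent.S2100

/-!
The group on five generators lifts into every finite central extension of the presented Lyons group.
-/

set_option autoImplicit false

namespace CfsgLib.Schur.LyonsMult

open Cfsg CfsgLib.Presented CfsgLib.Presented.Ly
open scoped commutatorElement

theorem commutator_H5 : commutator H5 = ⊤ := by
  have := h5_simple
  rcases (inferInstance : (commutator H5).Normal).eq_bot_or_eq_top with h | h
  · exfalso
    have hcomm : ∀ a b : H5, a * b = b * a := fun a b => by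
      refine commutatorElement_eq_one_iff_mul_comm.1 (Subgroup.mem_bot.1 (h ▸ ?_))
      rw [commutator_def]
      exact Subgroup.commutator_mem_commutator (Subgroup.mem_top a) (Subgroup.mem_top b)
    let _ : CommGroup H5 := { (inferInstance : Group H5) with mul_comm := hcomm }
    have hp := IsSimpleGroup.prime_card (α := H5)
    rw [card_H5.1] at hp
    exact (Nat.not_prime_of_dvd_of_lt (by norm_num : 2 ∣ 5859000000) (by norm_num) (by norm_num)) hp
  · exact h

/-- A finite stem extension of the group on five generators is an isomorphism. -/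
theorem stem_H5_injective {D : Type} [Group D] [Finite D] (σ : D →* H5) (hσ : IsStemExtension σ) :
    Function.Injective σ := by
  have hk : (h5Equiv.toMonoidHom.comp σ).ker = σ.ker := MonoidHom.ker_mulEquiv_comp σ h5Equiv
  obtain ⟨π, hπ⟩ := (Cfsg.Agent.S2100.result (F := ZMod 5) (by simp [ZMod.card])).2 D
    (h5Equiv.toMonoidHom.comp σ) ⟨h5Equiv.surjective.comp hσ.1, hk ▸ hσ.2.1, hk ▸ hσ.2.2⟩
  rw [← MonoidHom.ker_eq_bot_iff, ← hk, Subgroup.eq_bot_iff_forall]
  intro x hx
  obtain ⟨a, ha⟩ := hπ ⟨x, hx⟩
  have : Subsingleton (Multiplicative (ZMod 1)) := inferInstanceAs (Subsingleton (ZMod 1))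
  rw [Subsingleton.elim a 1, map_one] at ha
  exact congrArg Subtype.val ha.symm

/-- The lift. -/
theorem exists_section {E : Type} [Group E] [Finite E] (π : E →* Cfsg.Spor.Ly) (hπ : Function.Surjective π)
    (hc : π.ker ≤ Subgroup.center E) : ∃ s : H5 →* E, ∀ h, π (s h) = toLy h := by
  let P : Subgroup (H5 × E) := (toLy.comp (MonoidHom.fst H5 E)).eqLocus (π.comp (MonoidHom.snd H5 E))
  let p : P →* H5 := (MonoidHom.fst H5 E).comp P.subtype
  have hp : Function.Surjective p := fun h => by
    obtain ⟨e, he⟩ := hπ (toLy h)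
    exact ⟨⟨(h, e), he.symm⟩, rfl⟩
  have hmem : ∀ x : P, toLy x.1.1 = π x.1.2 := fun x => x.2
  have hpc : p.ker ≤ Subgroup.center P := by
    intro x hx
    have hx1 : x.1.1 = 1 := hx
    have hxe : x.1.2 ∈ π.ker := by rw [MonoidHom.mem_ker, ← hmem x, hx1, map_one]
    refine Subgroup.mem_center_iff.2 fun y => Subtype.ext (Prod.ext ?_ ?_)
    · show y.1.1 * x.1.1 = x.1.1 * y.1.1
      rw [hx1, mul_one, one_mul]
    · exact Subgroup.mem_center_iff.1 (hc hxe) y.1.2
  have hfin : Finite H5 := Nat.finite_of_card_ne_zero card_le.1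
  let σ : ↥(commutator P) →* H5 := p.comp (commutator P).subtype
  have hσs : Function.Surjective σ := by
    intro h
    have hmap : (commutator P).map p = ⊤ := by
      rw [commutator_def, Subgroup.map_commutator, Subgroup.map_top_of_surjective _ hp, ← commutator_def,
        commutator_H5]
    obtain ⟨x, hx, rfl⟩ := hmap ▸ Subgroup.mem_top h
    exact ⟨⟨x, hx⟩, rfl⟩
  have hle : commutator P ≤ (commutator (commutator P)).map (commutator P).subtype := by
    conv_lhs => rw [commutator_def]
    refine Subgroup.commutator_le.2 fun a _ b _ => ?_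
    obtain ⟨a', ha'⟩ := hσs (p a)
    obtain ⟨b', hb'⟩ := hσs (p b)
    rw [← CfsgLib.Schur.commutator_congr hpc (x := a'.1) (y := b'.1) ha' hb']
    exact ⟨⁅a', b'⁆, Subgroup.commutator_mem_commutator (Subgroup.mem_top a') (Subgroup.mem_top b'), rfl⟩
  have hperf : commutator (commutator P) = ⊤ := by
    refine eq_top_iff.2 fun x _ => ?_
    obtain ⟨y, hy, e⟩ := hle x.2
    rwa [← Subtype.ext e (a2 := x)]
  have hinj : Function.Injective σ := by
    refine stem_H5_injective σ ⟨hσs, fun x hx => ?_, by rw [hperf]; exact le_top⟩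
    exact Subgroup.mem_center_iff.2 fun y => Subtype.ext (Subgroup.mem_center_iff.1 (hpc (x := x.1) hx) y.1)
  let e := MulEquiv.ofBijective σ ⟨hinj, hσs⟩
  refine ⟨((MonoidHom.snd H5 E).comp P.subtype).comp ((commutator P).subtype.comp e.symm.toMonoidHom),
    fun h => ?_⟩
  have := hmem (e.symm h).1
  refine this.symm.trans (congrArg toLy ?_)
  exact e.apply_symm_apply h

end CfsgLib.Schur.LyonsMult
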