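import Cfsg.Agent.Lib.Schur.LyonsMult.Scalars
import Cfsg.Agent.Lib.Schur.LyonsMult.Section

/-!
Every finite stem extension of the presented Lyons group is an isomorphism.
-/

set_option autoImplicit false
set_option maxRecDepth 100000

namespace CfsgLib.Schur.LyonsMult

open Cfsg CfsgLib.Presented CfsgLib.Presented.Ly

theorem words_ok : (((List.range 8).all fun k =>
    isWord (kxIdx.getD k 0) (LyK.xWords.getD k []) && isWord (thIdx.getD k 0) (thWord [k])) &&
    isWord uIdx [0, 0] && isWord uiIdx [1, 1]) = true := by decide +kernel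

theorem relWord_ok : ((List.range 14).all fun j => (relWord (72 + j)).all fun x => Nat.blt x 12) = true := by
  decide +kernel

theorem relWord_80 : relWord 80 = [10, 10, 1, 1] := by decide +kernel

theorem count_ok : ((List.range 5).all fun m =>
    ([0, 0, 2, 2, 2].getD m 0) * 2 + weight.getD (m + 9) 0 == ((relItems (81 + m)).count 0 : ℤ)) = true := by
  decide +kernel

theorem defRels_sigma : (defRels.all fun p => decide (sigmaHom (Cfsg.Spor.Ly.extra.getD p.2 1) = 1)) = true := by
  decide +kernel

theorem extra_cover : (Nat.ble Cfsg.Spor.Ly.extra.length 86 &&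
    (List.range 86).all fun i => decide (i ∈ subRels) || decide (i ∈ defRels.map Prod.snd) || Nat.ble 72 i) = true := by
  decide +kernel

theorem ev_zero_one : ev 0 * ev 1 = 1 ∧ ev 1 * ev 0 = 1 := by
  have := ev_inv 0 (by decide)
  rw [show LyH.alphabet.invl 0 = 1 by decide +kernel] at this
  exact ⟨mul_eq_one_comm.1 this, this⟩

theorem ev_sq_inv : evW ev [1, 1] * evW ev [0, 0] = 1 ∧ evW ev [0, 0] * evW ev [1, 1] = 1 := by
  constructor
  · rw [show evW ev [1, 1] * evW ev [0, 0] = ev 1 * (ev 1 * ev 0) * ev 0 by simp [evW, mul_assoc],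
      ev_zero_one.2, mul_one, ev_zero_one.2]
  · rw [show evW ev [0, 0] * evW ev [1, 1] = ev 0 * (ev 0 * ev 1) * ev 1 by simp [evW, mul_assoc],
      ev_zero_one.1, mul_one, ev_zero_one.1]

theorem ev_pair (g : Gen5) : ev (idx5 g) = PresentedGroup.of g ∧ ev (idx5 g + 1) = (PresentedGroup.of g)⁻¹ := by
  have e : ev (idx5 g) = PresentedGroup.of g ∧
      ev (LyH.alphabet.invl (idx5 g)) = (PresentedGroup.of g)⁻¹ :=
    Letters.ev_idx (L := letters5) letters5_valid (Letters.of_sq nodes5_valid) (full5 g).1 (full5 g).2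
  have ei : LyH.alphabet.invl (idx5 g) = idx5 g + 1 := by cases g <;> decide +kernel
  exact ⟨e.1, ei ▸ e.2⟩

section lift

variable {E : Type} [Group E] (z : E) (s : H5 →* E)

/-- The images of the five generators and of the sixth. -/
noncomputable def baseMap : Cfsg.Spor.Ly.Gen → E
  | .a => s (PresentedGroup.of Gen5.a)
  | .b => s (PresentedGroup.of Gen5.b)
  | .c => s (PresentedGroup.of Gen5.c)
  | .d => s (PresentedGroup.of Gen5.d)
  | .e => s (PresentedGroup.of Gen5.e)
  | .z => z
  | _ => 1

/-- The values of twelve letters. -/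
noncomputable def evE (x : ℕ) : E :=
  if x < 10 then s (ev x) else if x = 10 then z else if x = 11 then z⁻¹ else 1

theorem baseMap_toLyGen : FreeGroup.lift (fun g => baseMap z s (toLyGen g)) = s.comp
    (PresentedGroup.mk (Cfsg.Spor.coxRelators ([] : List (Gen5 × ℕ × Gen5)) ∪ {r | r ∈ extra5})) :=
  FreeGroup.ext_hom _ _ fun g => by
    rw [FreeGroup.lift_apply_of, MonoidHom.comp_apply]
    cases g <;> rfl

theorem evE_letter6 (p : Cfsg.Spor.Ly.Gen × Bool) (h : letter6 p < 12) :
    evE z s (letter6 p) = cond p.2 (baseMap z s p.1) (baseMap z s p.1)⁻¹ := by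
  have five : ∀ g : Gen5, evE z s (idx5 g) = s (PresentedGroup.of g) ∧
      evE z s (idx5 g + 1) = (s (PresentedGroup.of g))⁻¹ := by
    intro g
    have h1 : idx5 g + 1 < 10 := by cases g <;> decide
    rw [evE, if_pos (by omega), evE, if_pos h1, (ev_pair g).1, (ev_pair g).2, map_inv]
    exact ⟨rfl, rfl⟩
  obtain ⟨g, b⟩ := p
  cases g
  case a => cases b; exacts [(five .a).2, (five .a).1]
  case b => cases b; exacts [(five .b).2, (five .b).1]
  case c => cases b; exacts [(five .c).2, (five .c).1]
  case d => cases b; exacts [(five .d).2, (five .d).1]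
  case e => cases b; exacts [(five .e).2, (five .e).1]
  case z => cases b <;> simp [evE, letter6, baseMap]
  all_goals exact absurd h (by simp [letter6])

theorem lift_relWord {i : ℕ} (h : (relWord i).all (fun x => Nat.blt x 12) = true) :
    FreeGroup.lift (baseMap z s) (sigmaHom (Cfsg.Spor.Ly.extra.getD i 1)) = evW (evE z s) (relWord i) := by
  simp only [List.all_eq_true, Nat.blt_eq] at h
  rw [relWord, evW, List.map_map] at *
  conv_lhs => rw [← FreeGroup.mk_toWord (x := sigmaHom (Cfsg.Spor.Ly.extra.getD i 1)), FreeGroup.lift_mk]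
  exact congrArg List.prod (List.map_congr_left fun p hp =>
    (evE_letter6 z s p (h _ (List.mem_map_of_mem hp))).symm)

theorem evI_letterItem {w : List ℕ} (hw : ∀ x ∈ w, x < 12) (hinv : s (elem uiIdx) * z = z⁻¹) :
    evI (val z s) (w.flatMap letterItem) = evW (evE z s) w := by
  induction w with
  | nil => rfl
  | cons x w ih =>
    rw [List.flatMap_cons, evI_append, evW_cons, ih fun y hy => hw y (List.mem_cons_of_mem _ hy)]
    congr 1
    have hx := hw x List.mem_cons_self
    by_cases h : x < 10
    · simp [letterItem, evE, h, evI, val, elem_letter h]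
    · obtain rfl | rfl : x = 10 ∨ x = 11 := by omega
      · simp [letterItem, evE, evI, val]
      · simp [letterItem, evE, evI, val, hinv]

theorem evI_shift (c : Subgroup.center E) : ∀ w : List ℕ,
    evI (val (z * (c : E)) s) w = evI (val z s) w * ((c ^ w.count 0 : Subgroup.center E) : E)
  | [] => by simp [evI]
  | x :: w => by
    have ih := evI_shift c w
    have ec : ∀ v : ℕ → E, evI v (x :: w) = v x * evI v w := fun v => by simp [evI]
    rw [ec, ec, ih]
    cases x with
    | zero =>
      rw [List.count_cons_self, pow_succ', Subgroup.coe_mul]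
      show z * (c : E) * (evI (val z s) w * _) = z * evI (val z s) w * ((c : E) * _)
      rw [mul_assoc, mul_assoc, ← mul_assoc (c : E), center_move c, mul_assoc]
    | succ n =>
      rw [List.count_cons_of_ne (by simp)]
      show s (elem n) * (evI (val z s) w * _) = s (elem n) * evI (val z s) w * _
      rw [mul_assoc]

variable {z s}

/-- Relators hold, so the lift is a homomorphism on the presented group. -/
theorem exists_hom (hconj : ∀ k < 8, z * s (evW ev (LyK.xWords.getD k [])) = s (evW ev (thWord [k])) * z)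
    (hsq : z * z = s (evW ev [0, 0]))
    (hrel : ∀ m < 5, evW (evE z s) (relWord (81 + m)) = 1) :
    ∃ ψ : Cfsg.Spor.Ly →* E, ψ gz = z ∧ ψ.comp toLy = s := by
  have kills : ∀ r ∈ Cfsg.Spor.coxRelators Cfsg.Spor.Ly.edges ∪ {r | r ∈ Cfsg.Spor.Ly.extra},
      FreeGroup.lift (fun g => FreeGroup.lift (baseMap z s) (sigma g)) r = 1 := by
    have e : FreeGroup.lift (fun g => FreeGroup.lift (baseMap z s) (sigma g)) =
        (FreeGroup.lift (baseMap z s)).comp sigmaHom :=
      FreeGroup.ext_hom _ _ fun g => by
        rw [FreeGroup.lift_apply_of, MonoidHom.comp_apply, sigmaHom, FreeGroup.lift_apply_of]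
    rintro r (⟨x, hx, -⟩ | hr)
    · exact absurd hx (by simp [Cfsg.Spor.coxNodes, Cfsg.Spor.Ly.edges])
    rw [e, MonoidHom.comp_apply]
    obtain ⟨i, hi, rfl⟩ := List.mem_iff_getElem.1 hr
    rw [← List.getD_eq_getElem _ 1 hi]
    have hcov := extra_cover
    simp only [Bool.and_eq_true, Nat.ble_eq, List.all_eq_true, List.mem_range, Bool.or_eq_true,
      decide_eq_true_eq] at hcov
    have hi' : i < 86 := hi.trans_le hcov.1
    rcases hcov.2 i hi' with (hs | hd) | h72
    · have hm : sigmaHom (Cfsg.Spor.Ly.extra.getD i 1) ∈ extra5.map (FreeGroup.map toLyGen) := by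
        rw [extra5_map]
        exact List.mem_map.2 ⟨i, hs, rfl⟩
      obtain ⟨q, hq, hqe⟩ := List.mem_map.1 hm
      rw [← hqe]
      have e2 : (FreeGroup.lift (baseMap z s)).comp (FreeGroup.map toLyGen) =
          FreeGroup.lift (fun g => baseMap z s (toLyGen g)) :=
        FreeGroup.ext_hom _ _ fun g => by
          rw [MonoidHom.comp_apply, FreeGroup.map.of, FreeGroup.lift_apply_of, FreeGroup.lift_apply_of]
      rw [← MonoidHom.comp_apply, e2, baseMap_toLyGen, MonoidHom.comp_apply,
        PresentedGroup.one_of_mem (Or.inr hq), map_one]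
    · obtain ⟨p, hp, rfl⟩ := List.mem_map.1 hd
      have h := defRels_sigma
      simp only [List.all_eq_true, decide_eq_true_eq] at h
      rw [h p hp, map_one]
    · have hb := relWord_ok
      simp only [List.all_eq_true, List.mem_range] at hb
      have hb' : (relWord i).all (fun x => Nat.blt x 12) = true := by
        have := hb (i - 72) (by omega)
        rw [show 72 + (i - 72) = i by omega] at this
        exact List.all_eq_true.2 this
      rw [lift_relWord z s hb']
      have hlt : ∀ {w : List ℕ}, (∀ y ∈ w, y < 10) → evW (evE z s) w = s (evW ev w) := by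
        intro w hw
        rw [evW, evW, map_list_prod, List.map_map]
        exact congrArg List.prod (List.map_congr_left fun y hy => by simp [evE, hw y hy])
      rcases (by omega : i < 80 ∨ i = 80 ∨ 81 ≤ i) with h80 | rfl | h81
      · obtain ⟨k, rfl⟩ : ∃ k, i = 72 + k := ⟨i - 72, by omega⟩
        have hk : k < 8 := by omega
        have hz := zConj_words
        simp only [List.all_eq_true, List.mem_range, Bool.and_eq_true, decide_eq_true_eq] at hz
        obtain ⟨hth, hx⟩ := lt_thWord k hk
        rw [(hz k hk).2, evW_append, evW_append, evW_append, hlt hth, hlt (invWord_lt hx),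
          evW_invWord ev_good (fun y hy => (hx y hy).le), map_inv]
        have e10 : evW (evE z s) [10] = z := by simp [evW, evE]
        have e11 : evW (evE z s) [11] = z⁻¹ := by simp [evW, evE]
        rw [e10, e11, mul_assoc z⁻¹, ← hconj k hk]
        group
      · rw [relWord_80]
        have e00 : evW (evE z s) [1, 1] = s (evW ev [1, 1]) := hlt (by simp)
        rw [show ([10, 10, 1, 1] : List ℕ) = [10, 10] ++ [1, 1] from rfl, evW_append, e00,
          show evW (evE z s) [10, 10] = z * z by simp [evW, evE], hsq, ← map_mul, ev_sq_inv.2, map_one]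
      · obtain ⟨m, rfl⟩ : ∃ m, i = 81 + m := ⟨i - 81, by omega⟩
        exact hrel m (by omega)
  refine ⟨PresentedGroup.toGroup kills, ?_, ?_⟩
  · show PresentedGroup.toGroup kills (mkLy (FreeGroup.of Cfsg.Spor.Ly.Gen.z)) = z
    refine (PresentedGroup.toGroup.of kills).trans ?_
    show FreeGroup.lift (baseMap z s) (FreeGroup.of Cfsg.Spor.Ly.Gen.z) = z
    rw [FreeGroup.lift_apply_of]
    rfl
  · refine PresentedGroup.ext fun g => ?_
    rw [MonoidHom.comp_apply, toLy_of]
    refine (PresentedGroup.toGroup.of kills).trans ?_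
    cases g <;> exact FreeGroup.lift_apply_of

end lift

theorem pi_evI {E : Type} [Group E] {π : E →* Cfsg.Spor.Ly} {g : E} (hg : π g = gz) {s : H5 →* E}
    (hs : ∀ h, π (s h) = toLy h) (hUI : elem uiIdx = evW ev [1, 1]) :
    ∀ w : List ℕ, (∀ x ∈ w, x < 12) → π (evI (val g s) (w.flatMap letterItem)) = evW evL w
  | [], _ => by simp [evI, evW]
  | x :: w, hw => by
    rw [List.flatMap_cons, evI_append, map_mul, evW_cons,
      pi_evI hg hs hUI w fun y hy => hw y (List.mem_cons_of_mem _ hy)]
    congr 1
    have hx := hw x List.mem_cons_self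
    by_cases h : x < 10
    · simp [letterItem, evL, h, evI, val, elem_letter h, hs]
    · obtain rfl | rfl : x = 10 ∨ x = 11 := by omega
      · simp [letterItem, evL, evI, val, hg]
      · have e1 : evI (val g s) (letterItem 11) = s (elem uiIdx) * g := by simp [letterItem, evI, val]
        have e2 : evL 11 = gz⁻¹ := by simp [evL]
        rw [e1, e2, map_mul, hs, hg, hUI]
        refine eq_inv_of_mul_eq_one_left ?_
        rw [mul_assoc, gz_sq, ← map_mul, ev_sq_inv.1, map_one]

/-- The kernel of a finite stem extension is trivial. -/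
theorem ker_eq_bot {E : Type} [Group E] [Finite E] {π : E →* Cfsg.Spor.Ly} (hπ : IsStemExtension π) :
    π.ker = ⊥ := by
  obtain ⟨hsurj, hc, hcomm⟩ := hπ
  obtain ⟨s, hs⟩ := exists_section π hsurj hc
  obtain ⟨g, hg⟩ := hsurj gz
  have hw := words_ok
  simp only [Bool.and_eq_true, List.all_eq_true, List.mem_range] at hw
  obtain ⟨⟨hwk, hwU⟩, hwUI⟩ := hw
  have hU := elem_of_isWord hwU
  have hUI := elem_of_isWord hwUI
  have hrw : ∀ m < 5, ∀ x ∈ relWord (81 + m), x < 12 := by
    intro m hm x hx
    have h := relWord_ok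
    simp only [List.all_eq_true, List.mem_range, Nat.blt_eq] at h
    have := h (9 + m) (by omega)
    exact this x (by rwa [show 72 + (9 + m) = 81 + m by omega])
  let c8 : E := (s (elem uIdx))⁻¹ * (g * g)
  let raw : ℕ → E := fun k =>
    if k < 8 then (g * s (elem (kxIdx.getD k 0)))⁻¹ * (s (elem (thIdx.getD k 0)) * g)
    else if k = 8 then c8
    else (c8 ^ ([0, 0, 2, 2, 2].getD (k - 9) 0 : ℕ))⁻¹ * evI (val g s) (relItems (k + 72))
  have hc8 : π c8 = 1 := by
    simp only [c8, map_mul, map_inv, hs, hg, hU]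
    rw [gz_sq, inv_mul_cancel]
  have hraw : ∀ k < dimV, raw k ∈ π.ker := by
    intro k hk
    rw [MonoidHom.mem_ker]
    simp only [raw]
    split_ifs with h1 h2
    · simp only [map_mul, map_inv, hs, hg, elem_of_isWord (hwk k h1).1, elem_of_isWord (hwk k h1).2]
      rw [inv_mul_eq_one]
      exact z_conj h1
    · exact hc8
    · have hk' : k - 9 < 5 := by change k < 14 at hk; omega
      have he : k + 72 = 81 + (k - 9) := by omega
      rw [map_mul, map_inv, map_pow, hc8, one_pow, inv_one, one_mul, relItems,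
        pi_evI hg hs hUI _ (he ▸ hrw _ hk'), he, relWord_one]
      simp only [List.all_eq_true, Nat.blt_eq]
      exact hrw _ hk'
  let u : Fin dimV → Subgroup.center E := fun k => ⟨raw k, hc (hraw k k.2)⟩
  have hb : ∀ r ∈ baseRules, Holds u (val g s) r := by
    intro r hr
    rw [baseRules_eq, List.mem_map] at hr
    obtain ⟨k, hk, rfl⟩ := hr
    rw [List.mem_range] at hk
    have hsk := scal_singleV u ⟨k, hk⟩
    have hs8 := scal_singleV u i8
    change ∀ c, scal u (singleV 8 c) = u i8 ^ c at hs8
    change ∀ c, scal u (singleV k c) = u ⟨k, hk⟩ ^ c at hsk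
    unfold Holds ruleOf
    split_ifs with h1 h2
    · rw [hsk, zpow_neg, zpow_one]
      show evI (val g s) [0, _] = evI (val g s) [_, 0] * ((u ⟨k, hk⟩ : E))⁻¹
      simp only [evI, val, u, raw, if_pos h1, List.map_cons, List.map_nil, List.prod_cons, List.prod_nil, mul_one]
      group
    · subst h2
      rw [hsk, zpow_one]
      show evI (val g s) [0, 0] = evI (val g s) [uIdx + 1] * (u ⟨8, hk⟩ : E)
      simp only [evI, val, u, raw, c8, List.map_cons, List.map_nil, List.prod_cons, List.prod_nil, mul_one]
      norm_num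
    · rw [scal_addV, hs8, hsk, zpow_one]
      have e9 : (u ⟨k, hk⟩ : E) = (c8 ^ ([0, 0, 2, 2, 2].getD (k - 9) 0 : ℕ))⁻¹ * evI (val g s) (relItems (k + 72)) := by
        simp [u, raw, h1, h2]
      have e8 : (u i8 : E) = c8 := by simp [u, raw, i8]
      have hz : ([0, 0, 2, 2, 2].getD (k - 9) 0 : ℤ) = (([0, 0, 2, 2, 2].getD (k - 9) 0 : ℕ) : ℤ) := by
        have : k - 9 < 5 := by change k < 14 at hk; omega
        generalize k - 9 = m at this ⊢
        interval_cases m <;> rfl
      rw [hz, zpow_natCast, Subgroup.coe_mul, SubmonoidClass.coe_pow, e8, e9]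
      simp [evI]
  have hu := scalar_eq u hb
  set lam : Subgroup.center E := u i9 * (u i8)⁻¹ with hlam
  have hlker : (lam : E) ∈ π.ker := π.ker.mul_mem (hraw _ i9.2) (π.ker.inv_mem (hraw _ i8.2))
  set z : E := g * ((lam⁻¹ : Subgroup.center E) : E) with hzdef
  have hπz : π z = gz := by
    rw [hzdef, map_mul, Subgroup.coe_inv, map_inv, MonoidHom.mem_ker.1 hlker, inv_one, mul_one, hg]
  have hcm : ∀ x : E, ((lam⁻¹ : Subgroup.center E) : E) * x = x * ((lam⁻¹ : Subgroup.center E) : E) :=
    center_move _
  have h8 : (u i8 : E) = (lam : E) ^ 2 := by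
    rw [← Subgroup.coe_pow]
    refine congrArg Subtype.val ?_
    rw [hu i8, show weight.getD (i8 : ℕ) 0 = ((2 : ℕ) : ℤ) from rfl, zpow_natCast]
  have hgg : g * g = s (elem uIdx) * (lam : E) ^ 2 := by
    rw [← h8]
    simp [u, raw, i8, c8]
  have hsq : z * z = s (evW ev [0, 0]) := by
    rw [← hU, hzdef, mul_assoc, ← mul_assoc _ g, hcm g, mul_assoc, ← mul_assoc g g, hgg, Subgroup.coe_inv]
    group
  have hinv : s (elem uiIdx) * z = z⁻¹ := by
    refine eq_inv_of_mul_eq_one_left ?_
    rw [mul_assoc, hsq, hUI, ← map_mul, ev_sq_inv.1, map_one]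
  have hconj : ∀ k < 8, z * s (evW ev (LyK.xWords.getD k [])) = s (evW ev (thWord [k])) * z := by
    intro k hk
    have h1 : (u ⟨k, by show k < 14; omega⟩ : E) = 1 := by
      rw [hu]
      have : weight.getD k 0 = 0 := by interval_cases k <;> rfl
      rw [this, zpow_zero, Subgroup.coe_one]
    simp only [u, raw, if_pos hk, inv_mul_eq_one] at h1
    rw [← elem_of_isWord (hwk k hk).1, ← elem_of_isWord (hwk k hk).2, hzdef, mul_assoc, hcm, ← mul_assoc,
      h1, mul_assoc]
  have hrel : ∀ m < 5, evW (evE z s) (relWord (81 + m)) = 1 := by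
    intro m hm
    rw [← evI_letterItem z s (hrw m hm) hinv, hzdef, evI_shift]
    have hk : m + 9 < dimV := by show m + 9 < 14; omega
    have hr := hb (ruleOf (m + 9)) (baseRules_eq ▸ List.mem_map_of_mem (List.mem_range.2 hk))
    rw [Holds, ruleOf, if_neg (by omega), if_neg (by omega)] at hr
    rw [show m + 9 + 72 = 81 + m by omega, show m + 9 - 9 = m by omega] at hr
    have hcount := count_ok
    simp only [List.all_eq_true, List.mem_range, beq_iff_eq] at hcount
    have hcnt := hcount m hm
    have e : scal u (addV (singleV 8 ([0, 0, 2, 2, 2].getD m 0)) (singleV (m + 9) 1)) =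
        lam ^ ((relItems (81 + m)).count 0 : ℤ) := by
      have a1 := scal_singleV u i8
      have a2 := scal_singleV u ⟨m + 9, hk⟩
      change ∀ c, scal u (singleV 8 c) = u i8 ^ c at a1
      change ∀ c, scal u (singleV (m + 9) c) = u ⟨m + 9, hk⟩ ^ c at a2
      rw [scal_addV, a1, a2, zpow_one, hu i8, hu ⟨m + 9, hk⟩, ← hcnt, ← zpow_mul, ← zpow_add, mul_comm]
      rfl
    show evI (val g s) (relItems (81 + m)) * ((lam⁻¹ ^ (relItems (81 + m)).count 0 : Subgroup.center E) : E) = 1
    rw [hr, e, zpow_natCast]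
    simp [evI]
  obtain ⟨ψ, hψz, hψs⟩ := exists_hom hconj hsq hrel
  have hid : ∀ y, π (ψ y) = y := by
    intro y
    have : π.comp ψ = MonoidHom.id _ := by
      refine MonoidHom.eq_of_eqOn_dense gen_Ly ?_
      rintro _ (rfl | ⟨h, rfl⟩)
      · simp [hψz, hπz]
      · show π (ψ (toLy h)) = toLy h
        rw [← MonoidHom.comp_apply ψ, hψs, hs]
    exact DFunLike.congr_fun this y
  have hle : commutator E ≤ ψ.range := by
    rw [commutator_def]
    refine Subgroup.commutator_le.2 fun a _ b _ => ?_
    rw [CfsgLib.Schur.commutator_congr hc (x := a) (x' := ψ (π a)) (y := b) (y' := ψ (π b))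
      (hid _).symm (hid _).symm]
    exact ⟨_, map_commutatorElement ψ (π a) (π b)⟩
  rw [Subgroup.eq_bot_iff_forall]
  intro x hx
  obtain ⟨y, rfl⟩ := hle (hcomm hx)
  rw [MonoidHom.mem_ker, hid] at hx
  rw [hx, map_one]

end CfsgLib.Schur.LyonsMult
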